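import Groth.Agent.SquareLib.Main
import Groth.Agent.AVAmpleLib.CurveThrough
import Groth.Agent.DevissLib.ClosedImm

/-!
Linking of rational points of connected schemes of finite type, and invariance under algebraic equivalence.
-/

set_option autoImplicit false
set_option linter.style.haveILetI false
set_option maxRecDepth 8000
set_option maxHeartbeats 1000000

noncomputable section

universe u

open CategoryTheory CategoryTheory.Limits MonoidalCategory CartesianMonoidalCategory AlgebraicGeometry TopologicalSpace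
open CubeConsLib

namespace SquareLib

variable {K : Type u} [Field K] [IsAlgClosed K]

/-- The reduced closed subscheme on an irreducible closed set. -/
theorem exists_integral_sub {T : Scheme.{u}} {Z : Set T} (hZ : IsIrreducible Z) (hc : IsClosed Z) :
    ∃ (Y : Scheme.{u}) (i : Y ⟶ T), IsClosedImmersion i ∧ IsIntegral Y ∧ Set.range i = Z := by
  let I : T.IdealSheafData := Scheme.IdealSheafData.vanishingIdeal ⟨Z, hc⟩
  haveI : IsReduced I.subscheme := DevissLib.isReduced_vanishingIdeal' _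
  have hr : Set.range I.subschemeι = Z := by
    rw [Scheme.IdealSheafData.range_subschemeι, Scheme.IdealSheafData.coe_support_vanishingIdeal]
    rfl
  haveI : IrreducibleSpace I.subscheme := by
    have h1 : IsIrreducible (Set.univ : Set I.subscheme) := by
      have : I.subschemeι '' Set.univ = Z := by rw [Set.image_univ, hr]
      rw [← this] at hZ
      obtain ⟨⟨_, ⟨y, hy, rfl⟩⟩, -⟩ := id hZ
      refine ⟨⟨y, hy⟩, ?_⟩
      intro O O' hO hO' hne hne'
      obtain ⟨o, ho, rfl⟩ := I.subschemeι.isEmbedding.isInducing.isOpen_iff.1 hO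
      obtain ⟨o', ho', rfl⟩ := I.subschemeι.isEmbedding.isInducing.isOpen_iff.1 hO'
      obtain ⟨p, -, hp⟩ := hne
      obtain ⟨p', -, hp'⟩ := hne'
      obtain ⟨_, ⟨q, -, rfl⟩, hq⟩ := hZ.2 o o' ho ho' ⟨_, ⟨p, trivial, rfl⟩, hp⟩ ⟨_, ⟨p', trivial, rfl⟩, hp'⟩
      exact ⟨q, trivial, hq⟩
    exact (irreducibleSpace_def _).2 h1
  exact ⟨I.subscheme, I.subschemeι, inferInstance, isIntegral_of_irreducibleSpace_of_isReduced _, hr⟩

/-- An integral curve is dominated by a smooth one. -/
theorem exists_smooth_normalization {Y : Scheme.{u}} (t : Y ⟶ Spec (CommRingCat.of K)) [LocallyOfFiniteType t]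
    [IsSeparated t] [QuasiCompact t] [IsIntegral Y] (hY : topologicalKrullDim Y ≤ 1) :
    ∃ (C : Over (Spec (CommRingCat.of K))) (ν : C ⟶ Over.mk t), IsCrv C ∧ Surjective ν.left ∧ IsFinite ν.left := by
  letI : Y.Over (Spec (CommRingCat.of K)) := ⟨t⟩
  haveI : LocallyOfFiniteType (Y ↘ Spec (CommRingCat.of K)) := inferInstanceAs (LocallyOfFiniteType t)
  haveI : IsLocallyNoetherian Y := LocallyOfFiniteType.isLocallyNoetherian t
  haveI : QuasiCompact (Y.fromSpecStalk (genericPoint Y)) := inferInstance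
  haveI : QuasiSeparated (Y.fromSpecStalk (genericPoint Y)) := inferInstance
  obtain ⟨hν, -, -, hint, hN⟩ := Groth.Agent.S1585.result K Y
  let ν := Curv2.normalizationι Y
  haveI := hν; haveI := hint
  haveI := Groth.Agent.S1585.surjective_ν Y
  haveI : LocallyOfFinitePresentation (ν ≫ t) := LocallyOfFinitePresentation.iff_locallyOfFiniteType.2 inferInstance
  haveI : IsLocallyNoetherian (Curv2.normalization Y) := LocallyOfFiniteType.isLocallyNoetherian (ν ≫ t)
  have hst : ∀ x, ringKrullDim ((Curv2.normalization Y).presheaf.stalk x) ≤ 1 := fun x =>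
    (DepthLib.ringKrullDim_stalk_le_of_integral ν x).trans ((MiscFlat6.ringKrullDim_stalk_le Y _).trans hY)
  have hsm : ∀ x, x ∈ (ν ≫ t).smoothLocus := fun x => by
    letI : (Curv2.normalization Y).Over (Spec (CommRingCat.of K)) := ⟨ν ≫ t⟩
    haveI : LocallyOfFinitePresentation (Curv2.normalization Y ↘ Spec (CommRingCat.of K)) :=
      inferInstanceAs (LocallyOfFinitePresentation (ν ≫ t))
    refine ((Groth.Agent.S1561.result K (Curv2.normalization Y)).1 x).2 ?_
    haveI := (hN x).1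
    haveI := (hN x).2
    exact MiscFlat6.isRegularLocalRing_of_normal_dim_le_one _ (hst x)
  haveI hsmooth : Smooth (ν ≫ t) := Scheme.Hom.smoothLocus_eq_top_iff.mp (top_le_iff.mp fun x _ => hsm x)
  exact ⟨Over.mk (ν ≫ t), Over.homMk ν rfl, ⟨hsmooth, inferInstanceAs (IsSeparated (ν ≫ t)), inferInstanceAs (QuasiCompact (ν ≫ t)),
    geometricallyIntegral_of_connected (ν ≫ t), topologicalKrullDim_le_of_stalks hst⟩, inferInstanceAs (Surjective ν), inferInstanceAs (IsFinite ν)⟩

/-- Integral separated schemes of finite type have linked points. -/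
theorem linked_integral (V : Over (Spec (CommRingCat.of K))) [LocallyOfFiniteType V.hom] [IsSeparated V.hom]
    [QuasiCompact V.hom] [IsIntegral V.left] (a a' : 𝟙_ _ ⟶ V) : Linked V a a' := by
  haveI : IsLocallyNoetherian V.left := LocallyOfFiniteType.isLocallyNoetherian V.hom
  haveI : JacobsonSpace V.left := LocallyOfFiniteType.jacobsonSpace V.hom
  haveI : CompactSpace V.left := QuasiCompact.compactSpace_of_compactSpace V.hom
  haveI : IsNoetherian V.left := ⟨⟩
  letI : V.left.Over (Spec (CommRingCat.of K)) := ⟨V.hom⟩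
  haveI : LocallyOfFinitePresentation (V.left ↘ Spec (CommRingCat.of K)) :=
    LocallyOfFinitePresentation.iff_locallyOfFiniteType.2 (inferInstanceAs (LocallyOfFiniteType V.hom))
  let U := (V.left ↘ Spec (CommRingCat.of K)).smoothLocus
  have hdense : Dense (U : Set V.left) := (Groth.Agent.S1561.result K V.left).2
  haveI : Nonempty ↥(U : Scheme.{u}) := by
    obtain ⟨x, hx⟩ := hdense.nonempty
    exact ⟨⟨x, hx⟩⟩
  haveI : IsIntegral (U : Scheme.{u}) := isIntegral_of_isOpenImmersion U.ι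
  haveI : LocallyOfFinitePresentation V.hom := inferInstanceAs (LocallyOfFinitePresentation (V.left ↘ Spec (CommRingCat.of K)))
  haveI : Smooth (U.ι ≫ V.hom) := by
    refine Scheme.Hom.smoothLocus_eq_top_iff.1 ?_
    rw [← Scheme.Hom.preimage_smoothLocus_eq]
    exact U.ι_preimage_self
  haveI : QuasiCompact U.ι := inferInstance
  let W : Over (Spec (CommRingCat.of K)) := Over.mk (U.ι ≫ V.hom)
  let iW : W ⟶ V := Over.homMk U.ι rfl
  haveI : IsOpenImmersion iW.left := inferInstanceAs (IsOpenImmersion U.ι)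
  haveI : Smooth W.hom := inferInstanceAs (Smooth (U.ι ≫ V.hom))
  haveI : IsSeparated W.hom := inferInstanceAs (IsSeparated (U.ι ≫ V.hom))
  haveI : QuasiCompact W.hom := inferInstanceAs (QuasiCompact (U.ι ≫ V.hom))
  haveI : GeometricallyIntegral W.hom := geometricallyIntegral_of_connected (U.ι ≫ V.hom)
  have hW : ∀ v v' : 𝟙_ _ ⟶ V, img v ∈ U → img v' ∈ U → Linked V v v' := by
    intro v v' hv hv'
    obtain ⟨c, rfl⟩ := exists_lift iW v (by show img v ∈ Set.range U.ι; rw [U.range_ι]; exact hv)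
    obtain ⟨c', rfl⟩ := exists_lift iW v' (by show img v' ∈ Set.range U.ι; rw [U.range_ι]; exact hv')
    exact (linked W c c').map iW
  suffices H : ∀ v : 𝟙_ _ ⟶ V, ∃ v', img v' ∈ U ∧ Linked V v v' by
    obtain ⟨v, hv, h⟩ := H a
    obtain ⟨v', hv', h'⟩ := H a'
    exact .trans _ _ _ h (.trans _ _ _ (hW v v' hv hv') (.symm _ _ h'))
  intro v
  by_cases hv : img v ∈ U
  · exact ⟨v, hv, .refl _⟩
  obtain ⟨y, hy, hya, hdim⟩ := AVAmpleLib.exists_curve_not_mem V.hom (img v) (isClosed_img v)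
    (F := (U : Set V.left)ᶜ) U.2.isClosed_compl hv (by
      intro h
      obtain ⟨x, hx⟩ := hdense.nonempty
      exact (h.ge (Set.mem_univ x)) hx)
  obtain ⟨Y, i, hi, hYint, hrange⟩ := exists_integral_sub (Z := closure ({y} : Set V.left)) isIrreducible_singleton.closure isClosed_closure
  have hdimY : topologicalKrullDim Y ≤ 1 := by
    rw [IsHomeomorph.topologicalKrullDim_eq _ ((i.isEmbedding.toHomeomorph.trans (Homeomorph.setCongr hrange)).isHomeomorph)]
    exact hdim.le
  obtain ⟨C, ν, hC, hsurj, hfin⟩ := exists_smooth_normalization (i ≫ V.hom) hdimY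
  let j : Over.mk (i ≫ V.hom) ⟶ V := Over.homMk i rfl
  let f : C ⟶ V := ν ≫ j
  haveI : LocallyOfFiniteType C.hom := by
    haveI : Smooth C.hom := hC.1
    infer_instance
  have hlift : ∀ x : V.left, x ∈ closure ({y} : Set V.left) → IsClosed ({x} : Set V.left) →
      ∃ c : 𝟙_ _ ⟶ C, img (c ≫ f) = x := by
    intro x hx hxc
    haveI : JacobsonSpace C.left := LocallyOfFiniteType.jacobsonSpace C.hom
    obtain ⟨z, hz⟩ : x ∈ Set.range f.left := by
      rw [← hrange] at hx
      obtain ⟨z₁, hz₁⟩ := hx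
      obtain ⟨z₀, hz₀⟩ := ν.left.surjective z₁
      exact ⟨z₀, by rw [← hz₁, ← hz₀]; rfl⟩
    obtain ⟨z', hz', hzc⟩ := nonempty_inter_closedPoints (Z := f.left ⁻¹' {x}) ⟨z, hz⟩
      (hxc.preimage f.left.continuous).isLocallyClosed
    obtain ⟨c, hc⟩ := exists_point_at hzc
    exact ⟨c, by rw [← hz', ← hc]; rfl⟩
  obtain ⟨x, hx, hxc⟩ := nonempty_inter_closedPoints (Z := closure ({y} : Set V.left) ∩ U)
    ⟨y, subset_closure rfl, not_not.1 hy⟩ (isClosed_closure.isLocallyClosed.inter U.2.isLocallyClosed)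
  obtain ⟨c, hc⟩ := hlift _ hya.mem_closure (isClosed_img v)
  obtain ⟨d, hd⟩ := hlift x hx.1 hxc
  refine ⟨d ≫ f, by rw [hd]; exact hx.2, ?_⟩
  rw [← ext_point hc]
  exact .rel _ _ ⟨C, f, c, d, hC, rfl, rfl⟩

/-- Any two rational points of a connected scheme of finite type are linked by a chain of curves. -/
theorem linked_connected (T : Over (Spec (CommRingCat.of K))) [LocallyOfFiniteType T.hom] [QuasiCompact T.hom]
    [ConnectedSpace T.left] (a a' : 𝟙_ _ ⟶ T) : Linked T a a' := by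
  haveI : IsLocallyNoetherian T.left := LocallyOfFiniteType.isLocallyNoetherian T.hom
  haveI : JacobsonSpace T.left := LocallyOfFiniteType.jacobsonSpace T.hom
  haveI : CompactSpace T.left := QuasiCompact.compactSpace_of_compactSpace T.hom
  haveI : IsNoetherian T.left := ⟨⟩
  -- within a component
  have hcomp : ∀ (Z : Set T.left), IsIrreducible Z → IsClosed Z → ∀ v v' : 𝟙_ _ ⟶ T, img v ∈ Z → img v' ∈ Z →
      Linked T v v' := by
    intro Z hZ hZc v v' hv hv'
    obtain ⟨Y, i, hi, hY, hrange⟩ := exists_integral_sub hZ hZc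
    let TY : Over (Spec (CommRingCat.of K)) := Over.mk (i ≫ T.hom)
    let iY : TY ⟶ T := Over.homMk i rfl
    haveI : LocallyOfFiniteType TY.hom := inferInstanceAs (LocallyOfFiniteType (i ≫ T.hom))
    haveI : JacobsonSpace TY.left := LocallyOfFiniteType.jacobsonSpace TY.hom
    haveI : IsIntegral TY.left := hY
    haveI : IsLocallyNoetherian TY.left := LocallyOfFiniteType.isLocallyNoetherian TY.hom
    have hlift : ∀ w : 𝟙_ _ ⟶ T, img w ∈ Z → ∃ w' : 𝟙_ _ ⟶ TY, w' ≫ iY = w := by
      intro w hw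
      rw [← hrange] at hw
      obtain ⟨z, hz⟩ := hw
      have hzc : IsClosed ({z} : Set TY.left) := by
        have : ({z} : Set Y) = i ⁻¹' {img w} := by
          ext z'
          simp only [Set.mem_singleton_iff, Set.mem_preimage]
          exact ⟨fun e => e ▸ hz, fun e => i.isEmbedding.injective (e.trans hz.symm)⟩
        rw [show ({z} : Set TY.left) = i ⁻¹' {img w} from this]
        exact (isClosed_img w).preimage i.continuous
      obtain ⟨w', hw'⟩ := exists_point_at hzc
      refine ⟨w', ext_point ?_⟩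
      rw [← hz, ← hw']
      rfl
    suffices H : ∀ p p' : 𝟙_ _ ⟶ TY, Linked TY p p' by
      obtain ⟨p, rfl⟩ := hlift v hv
      obtain ⟨p', rfl⟩ := hlift v' hv'
      exact (H p p').map iY
    have hopen : ∀ p : 𝟙_ _ ⟶ TY, ∃ O : TY.left.Opens, img p ∈ O ∧ ∀ q : 𝟙_ _ ⟶ TY, img q ∈ O → Linked TY p q := by
      intro p
      obtain ⟨O, hO, hpO, -⟩ := exists_isAffineOpen_mem_and_subset (U := (⊤ : TY.left.Opens)) (Opens.mem_top (img p))
      haveI : Nonempty ↥(O : Scheme.{u}) := ⟨⟨img p, hpO⟩⟩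
      haveI : IsIntegral (O : Scheme.{u}) := isIntegral_of_isOpenImmersion O.ι
      haveI : IsAffine (O : Scheme.{u}) := hO
      let OV : Over (Spec (CommRingCat.of K)) := Over.mk (O.ι ≫ TY.hom)
      let iO : OV ⟶ TY := Over.homMk O.ι rfl
      haveI : IsOpenImmersion iO.left := inferInstanceAs (IsOpenImmersion O.ι)
      haveI : LocallyOfFiniteType OV.hom := inferInstanceAs (LocallyOfFiniteType (O.ι ≫ TY.hom))
      haveI : IsAffineHom OV.hom := isAffineHom_of_isAffine (O.ι ≫ TY.hom)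
      haveI : IsIntegral OV.left := inferInstanceAs (IsIntegral (O : Scheme.{u}))
      refine ⟨O, hpO, fun q hq => ?_⟩
      obtain ⟨c, hc⟩ := exists_lift iO p (by show img p ∈ Set.range O.ι; rw [O.range_ι]; exact hpO)
      obtain ⟨c', hc'⟩ := exists_lift iO q (by show img q ∈ Set.range O.ι; rw [O.range_ι]; exact hq)
      have := (linked_integral OV c c').map iO
      rwa [hc, hc'] at this
    intro p p'
    obtain ⟨O, hpO, hO⟩ := hopen p
    obtain ⟨O', hpO', hO'⟩ := hopen p'
    obtain ⟨x, hx, hxc⟩ := nonempty_inter_closedPoints (Z := ((O ⊓ O' : TY.left.Opens) : Set TY.left))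
      (nonempty_preirreducible_inter O.2 O'.2 ⟨_, hpO⟩ ⟨_, hpO'⟩) (O ⊓ O').2.isLocallyClosed
    obtain ⟨q, rfl⟩ := exists_point_at hxc
    exact .trans _ _ _ (hO q hx.1) (.symm _ _ (hO' q hx.2))
  let G : Set (Set T.left) := {Z | Z ∈ irreducibleComponents T.left ∧ ∃ v : 𝟙_ _ ⟶ T, img v ∈ Z ∧ Linked T a v}
  have hfin := NoetherianSpace.finite_irreducibleComponents (α := T.left)
  have hA : IsClosed (⋃₀ G) := by
    rw [Set.sUnion_eq_biUnion]
    exact (hfin.subset fun Z hZ => hZ.1).isClosed_biUnion fun Z hZ => isClosed_of_mem_irreducibleComponents Z hZ.1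
  have hB : IsClosed (⋃₀ (irreducibleComponents T.left \ G)) := by
    rw [Set.sUnion_eq_biUnion]
    exact (hfin.subset Set.sdiff_subset).isClosed_biUnion fun Z hZ => isClosed_of_mem_irreducibleComponents Z hZ.1
  have hdisj : ∀ x, x ∈ ⋃₀ G → x ∉ ⋃₀ (irreducibleComponents T.left \ G) := by
    rintro x ⟨Z, ⟨hZ, v, hvZ, hav⟩, hxZ⟩ ⟨Z', ⟨hZ', hnot⟩, hxZ'⟩
    obtain ⟨w, hw, hwc⟩ := nonempty_inter_closedPoints (Z := Z ∩ Z') ⟨x, hxZ, hxZ'⟩
      ((isClosed_of_mem_irreducibleComponents Z hZ).inter (isClosed_of_mem_irreducibleComponents Z' hZ')).isLocallyClosed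
    obtain ⟨q, rfl⟩ := exists_point_at hwc
    exact hnot ⟨hZ', q, hw.2, .trans _ _ _ hav (hcomp Z hZ.1 (isClosed_of_mem_irreducibleComponents Z hZ) v q hvZ hw.1)⟩
  have hcover : ∀ x : T.left, x ∈ ⋃₀ G ∨ x ∈ ⋃₀ (irreducibleComponents T.left \ G) := fun x => by
    by_cases h : irreducibleComponent x ∈ G
    · exact Or.inl ⟨_, h, mem_irreducibleComponent⟩
    · exact Or.inr ⟨_, ⟨irreducibleComponent_mem_irreducibleComponents x, h⟩, mem_irreducibleComponent⟩
  have huniv : ⋃₀ G = Set.univ := by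
    refine IsClopen.eq_univ ⟨hA, ?_⟩ ⟨img a, irreducibleComponent (img a),
      ⟨irreducibleComponent_mem_irreducibleComponents _, a, mem_irreducibleComponent, .refl _⟩, mem_irreducibleComponent⟩
    rw [show ⋃₀ G = (⋃₀ (irreducibleComponents T.left \ G))ᶜ from Set.ext fun x =>
      ⟨hdisj x, fun h => (hcover x).resolve_right h⟩]
    exact hB.isOpen_compl
  obtain ⟨Z, ⟨hZ, v, hvZ, hav⟩, haZ⟩ := huniv.ge (Set.mem_univ (img a'))
  exact .trans _ _ _ hav (hcomp Z hZ.1 (isClosed_of_mem_irreducibleComponents Z hZ) v a' hvZ haZ)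

open MonObj in
/-- Classes algebraically equivalent to zero are translation invariant. -/
theorem translationInvariant (G : Over (Spec (CommRingCat.of K))) [GrpObj G] [IsCommMonObj G] [Smooth G.hom]
    [IsSeparated G.hom] [QuasiCompact G.hom] [GeometricallyIntegral G.hom] (T : Over (Spec (CommRingCat.of K)))
    [LocallyOfFiniteType T.hom] [QuasiCompact T.hom] [ConnectedSpace T.left] {M : (G ⊗ T).left.Modules}
    (hM : PicF.IsInvertible M) (t t₀ : 𝟙_ _ ⟶ T) {L : G.left.Modules}
    (e : (Scheme.Modules.pullback (lift (𝟙 G) (toUnit G ≫ t)).left).obj M ≅ L)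
    (e₀ : (Scheme.Modules.pullback (lift (𝟙 G) (toUnit G ≫ t₀)).left).obj M ≅ Coh.structureModule G.left)
    (a : 𝟙_ _ ⟶ G) :
    Nonempty ((Scheme.Modules.pullback ((𝟙 G * (toUnit G ≫ a))).left).obj L ≅ L) := by
  let F : (G ⊗ T) ⊗ G ⟶ G ⊗ T := lift (snd (G ⊗ T) G * (fst (G ⊗ T) G ≫ fst G T)) (fst (G ⊗ T) G ≫ snd G T)
  let τ : G ⟶ G := 𝟙 G * (toUnit G ≫ a)
  have h := square_linked (pb_mem F (clA_mem hM)) (linked G a 1) (linked_connected T t t₀)
  have key : ∀ (x : 𝟙_ (Over (Spec (CommRingCat.of K))) ⟶ G) (s : 𝟙_ _ ⟶ T),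
      E (pb F (clA hM)) x s = pb (𝟙 G * (toUnit G ≫ x)) (pb (lift (𝟙 G) (toUnit G ≫ s)) (clA hM)) := by
    intro x s
    rw [E, pb_comp, pb_comp]
    congr 1
    congr 1
    ext
    · simp [F, MonObj.comp_mul]
    · simp [F]
  have ht : pb (lift (𝟙 G) (toUnit G ≫ t)) (clA hM) = clA (HilbPolyLib.isInvertible_of_iso e (AmpleDevLib.isInvertible_pb _ hM)) := by
    rw [pb, pullA_clA, clA_eq_iff]
    exact ⟨e⟩
  have ht₀ : pb (lift (𝟙 G) (toUnit G ≫ t₀)) (clA hM) = 0 := by
    rw [pb, pullA_clA, ← clA_one, clA_eq_iff]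
    exact ⟨e₀⟩
  have h1 : (𝟙 G * (toUnit G ≫ (1 : 𝟙_ _ ⟶ G))) = 𝟙 G := by rw [comp_one, _root_.mul_one]
  rw [key, key, key, key, ht, ht₀, h1] at h
  simp only [map_zero, pb_id, add_zero, zero_add] at h
  rw [pb, pullA_clA, clA_eq_iff] at h
  exact h

end SquareLib
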