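import Groth.Agent.SquareLib.Link
import Groth.Agent.CubeConsLib.Defect2

/-!
The relations on products of varieties.
-/

set_option autoImplicit false
set_option linter.style.haveILetI false
set_option maxRecDepth 8000
set_option maxHeartbeats 1000000

noncomputable section

universe u

open CategoryTheory CategoryTheory.Limits MonoidalCategory CartesianMonoidalCategory MonObj AlgebraicGeometry
open CubeConsLib

namespace SquareLib

variable {K : Type u} [Field K] [IsAlgClosed K]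

/-- The relation, as an isomorphism of modules. -/
theorem square_iso {U V W X : Over (Spec (CommRingCat.of K))} [Smooth U.hom] [IsSeparated U.hom] [QuasiCompact U.hom]
    [GeometricallyIntegral U.hom] [Smooth V.hom] [IsSeparated V.hom] [QuasiCompact V.hom] [GeometricallyIntegral V.hom]
    [Smooth W.hom] [GeometricallyIntegral W.hom] (F : (U ⊗ V) ⊗ W ⟶ X) {L : X.left.Modules} (hL : PicF.IsInvertible L)
    (a a' : 𝟙_ _ ⟶ U) (b b' : 𝟙_ _ ⟶ V) (f₁ f₂ f₃ f₄ : W ⟶ X)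
    (h₁ : lift (lift (toUnit W ≫ a) (toUnit W ≫ b)) (𝟙 W) ≫ F = f₁)
    (h₂ : lift (lift (toUnit W ≫ a') (toUnit W ≫ b')) (𝟙 W) ≫ F = f₂)
    (h₃ : lift (lift (toUnit W ≫ a) (toUnit W ≫ b')) (𝟙 W) ≫ F = f₃)
    (h₄ : lift (lift (toUnit W ≫ a') (toUnit W ≫ b)) (𝟙 W) ≫ F = f₄) :
    Nonempty (CohB1.tensorMod ((Scheme.Modules.pullback f₁.left).obj L) ((Scheme.Modules.pullback f₂.left).obj L) ≅
      CohB1.tensorMod ((Scheme.Modules.pullback f₃.left).obj L) ((Scheme.Modules.pullback f₄.left).obj L)) := by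
  have h := square (pb_mem F (clA_mem hL)) a a' b b'
  have e : ∀ (x : 𝟙_ _ ⟶ U) (y : 𝟙_ _ ⟶ V) (f : W ⟶ X), lift (lift (toUnit W ≫ x) (toUnit W ≫ y)) (𝟙 W) ≫ F = f →
      E (pb F (clA hL)) x y = clA (AmpleDevLib.isInvertible_pb f.left hL) := fun x y f hf => by
    subst hf
    rw [E, pb_comp]
    exact pullA_clA _ hL
  rw [e a b _ h₁, e a' b' _ h₂, e a b' _ h₃, e a' b _ h₄, ← clA_tensor, ← clA_tensor, clA_eq_iff] at h
  exact h

theorem slice_square (G W : Over (Spec (CommRingCat.of K))) [GrpObj G] [Smooth G.hom] [IsSeparated G.hom]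
    [QuasiCompact G.hom] [GeometricallyIntegral G.hom] [Smooth W.hom] [GeometricallyIntegral W.hom]
    {L : (G ⊗ W).left.Modules} (hL : PicF.IsInvertible L) (a1 a2 a3 a4 : 𝟙_ (Over (Spec (CommRingCat.of K))) ⟶ G)
    (h : a1 * a3⁻¹ = a2 * a4⁻¹) :
    Nonempty (CohB1.tensorMod ((Scheme.Modules.pullback ((lift (toUnit W ≫ a1) (𝟙 W))).left).obj L) ((Scheme.Modules.pullback ((lift (toUnit W ≫ a4) (𝟙 W))).left).obj L) ≅
      CohB1.tensorMod ((Scheme.Modules.pullback ((lift (toUnit W ≫ a2) (𝟙 W))).left).obj L) ((Scheme.Modules.pullback ((lift (toUnit W ≫ a3) (𝟙 W))).left).obj L)) := by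
  have key : ∀ x y : 𝟙_ (Over (Spec (CommRingCat.of K))) ⟶ G,
      lift (lift (toUnit W ≫ x) (toUnit W ≫ y)) (𝟙 W) ≫ lift (fst (G ⊗ G) W ≫ (fst G G * snd G G)) (snd (G ⊗ G) W) =
        lift (toUnit W ≫ (x * y)) (𝟙 W) := fun x y => by
    ext
    · simp [MonObj.comp_mul]
    · simp
  have e1 : a2 * (a4⁻¹ * a3) = a1 := by rw [← _root_.mul_assoc, ← h, inv_mul_cancel_right]
  refine square_iso (lift (fst (G ⊗ G) W ≫ (fst G G * snd G G)) (snd (G ⊗ G) W)) hL a2 a4 (a4⁻¹ * a3) 1 _ _ _ _ ?_ ?_ ?_ ?_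
  · rw [key, e1]
  · rw [key, _root_.mul_one]
  · rw [key, _root_.mul_one]
  · rw [key, mul_inv_cancel_left]

theorem square_translate (G W : Over (Spec (CommRingCat.of K))) [GrpObj G] [IsCommMonObj G] [Smooth G.hom] [IsSeparated G.hom]
    [QuasiCompact G.hom] [GeometricallyIntegral G.hom] [Smooth W.hom] [GeometricallyIntegral W.hom]
    {L : (G ⊗ W).left.Modules} (hL : PicF.IsInvertible L) (a b : 𝟙_ (Over (Spec (CommRingCat.of K))) ⟶ G) :
    Nonempty (CohB1.tensorMod ((Scheme.Modules.pullback (((𝟙 G * (toUnit G ≫ (a * b))) ▷ W)).left).obj L) L ≅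
      CohB1.tensorMod ((Scheme.Modules.pullback (((𝟙 G * (toUnit G ≫ a)) ▷ W)).left).obj L) ((Scheme.Modules.pullback (((𝟙 G * (toUnit G ≫ b)) ▷ W)).left).obj L)) := by
  haveI : Smooth (G ⊗ W).hom := by simp only [Over.tensorObj_hom]; infer_instance
  haveI : GeometricallyIntegral (G ⊗ W).hom := geometricallyIntegral_prod G.hom W.hom
  let T := (G ⊗ G) ⊗ (G ⊗ W)
  let F : T ⟶ G ⊗ W := lift ((snd (G ⊗ G) (G ⊗ W) ≫ fst G W) * (fst (G ⊗ G) (G ⊗ W) ≫ (fst G G * snd G G)))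
    (snd (G ⊗ G) (G ⊗ W) ≫ snd G W)
  have key : ∀ x y : 𝟙_ (Over (Spec (CommRingCat.of K))) ⟶ G,
      lift (lift (toUnit (G ⊗ W) ≫ x) (toUnit (G ⊗ W) ≫ y)) (𝟙 (G ⊗ W)) ≫ F = (𝟙 G * (toUnit G ≫ (x * y))) ▷ W := fun x y => by
    ext
    · simp [F, MonObj.comp_mul]
    · simp [F]
  obtain ⟨e⟩ := square_iso F hL a 1 b 1 _ _ _ _ (key a b) (key 1 1) (key a 1) (key 1 b)
  rw [_root_.mul_one, _root_.one_mul, _root_.mul_one, comp_one, _root_.mul_one, id_whiskerRight, Over.id_left] at e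
  exact ⟨HilbPolyLib.congrRight _ ((Scheme.Modules.pullbackId _).app L).symm ≪≫ e⟩

end SquareLib
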