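import Groth.Agent.SquareLib.TrivGen
import Groth.Agent.PicUFDLib.Main
import Groth.Agent.CubeConsLib.Hom
import Groth.Agent.Unram17Lib.EtaleChartPullback
import Mathlib.AlgebraicGeometry.AffineSpace
import Mathlib.RingTheory.Polynomial.UniqueFactorization

/-!
The Picard group of the product with an open subscheme of affine space.
-/

set_option autoImplicit false
set_option linter.style.haveILetI false
set_option maxHeartbeats 1000000

noncomputable section

universe u

open CategoryTheory CategoryTheory.Limits AlgebraicGeometry TopologicalSpace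
open CubeConsLib

namespace SquareLib

theorem trivial_of_open_affineSpace {n : Type u} {Z : Scheme.{u}} {F : Type u} [Field F]
    (j : Z ⟶ 𝔸(n; Spec (CommRingCat.of F))) [IsOpenImmersion j] {L : Z.Modules} (hL : PicF.IsInvertible L) :
    Nonempty (L ≅ Coh.structureModule Z) := by
  let j' : Z ⟶ Spec (CommRingCat.of (MvPolynomial n F)) := j ≫ (AffineSpace.SpecIso n (CommRingCat.of F)).hom
  let e := j'.isoOpensRange
  haveI : UniqueFactorizationMonoid Γ(Spec (CommRingCat.of (MvPolynomial n F)), ⊤) :=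
    (Scheme.ΓSpecIso (CommRingCat.of (MvPolynomial n F))).commRingCatIsoToRingEquiv.symm.toMulEquiv.uniqueFactorizationMonoid
      inferInstance
  obtain ⟨i⟩ := PicUFDLib.nonempty_iso_of_ufd j'.opensRange _ (AmpleDevLib.isInvertible_pb e.inv hL)
  have h : pullA e.inv (clA hL) = 0 := by
    rw [pullA_clA, ← clA_one, clA_eq_iff]
    exact ⟨i⟩
  have h2 := congrArg (pullA e.hom) h
  rw [pullA_comp, Iso.hom_inv_id, pullA_id, map_zero, ← clA_one, clA_eq_iff] at h2
  exact h2

section

variable {S : Scheme.{u}} {n : Type u} (U : (𝔸(n; S)).Opens) {Y : Scheme.{u}} (g : Y ⟶ S)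

theorem exists_openImmersion_fiber (y : Y) :
    ∃ j : (pullback.fst g (U.ι ≫ 𝔸(n; S) ↘ S)).fiber y ⟶ 𝔸(n; Spec (Y.residueField y)), IsOpenImmersion j := by
  let q := U.ι ≫ 𝔸(n; S) ↘ S
  let p := pullback.fst g q
  let γ := Y.fromSpecResidueField y ≫ g
  let k : p.fiber y ⟶ U.toScheme := p.fiberι y ≫ pullback.snd g q
  have h : IsPullback k (p.fiberToSpecResidueField y) q γ :=
    (IsPullback.of_hasPullback p (Y.fromSpecResidueField y)).paste_horiz (IsPullback.of_hasPullback g q).flip
  have t := AffineSpace.isPullback_map (n := n) γ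
  let j := t.lift (k ≫ U.ι) (p.fiberToSpecResidueField y) ((Category.assoc _ _ _).trans h.w)
  refine ⟨j, ?_⟩
  have hj1 : j ≫ AffineSpace.map n γ = k ≫ U.ι := t.lift_fst _ _ _
  have hj2 : j ≫ 𝔸(n; Spec (Y.residueField y)) ↘ Spec (Y.residueField y) = p.fiberToSpecResidueField y := t.lift_snd _ _ _
  have htop : IsPullback k j U.ι (AffineSpace.map n γ) := IsPullback.of_bot (hj2.symm ▸ h) hj1.symm t
  exact MorphismProperty.of_isPullback htop inferInstance

theorem pullCl_bijective [IsNoetherian S] [Finite n] (u : S ⟶ U.toScheme)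
    (hu : u ≫ U.ι ≫ (𝔸(n; S) ↘ S) = 𝟙 S) [IsIntegral Y] [IsNoetherian Y] (hY : Pi1.IsNormalScheme Y) :
    ∀ c' : PicF.Cl (pullback g (U.ι ≫ (𝔸(n; S) ↘ S))), PicF.IsInvertibleCl c' →
      ∃! c : PicF.Cl Y, PicF.IsInvertibleCl c ∧ PicF.pullCl (pullback.fst g (U.ι ≫ (𝔸(n; S) ↘ S))) c = c' := by
  let q := U.ι ≫ 𝔸(n; S) ↘ S
  let p := pullback.fst g q
  let s : Y ⟶ pullback g q := pullback.lift (𝟙 Y) (g ≫ u) (by rw [Category.id_comp, Category.assoc, hu, Category.comp_id])
  have hs : s ≫ p = 𝟙 Y := pullback.lift_fst _ _ _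
  haveI : IsLocallyNoetherian (pullback g q) := LocallyOfFiniteType.isLocallyNoetherian p
  haveI : Smooth (𝔸(n; S) ↘ S) := Unram17Lib.smooth_affineSpace_over n S
  haveI : Flat p := inferInstance
  have hfib : ∀ y : Y, IsIntegral (p.fiber y) := fun y => by
    obtain ⟨j, hj⟩ := exists_openImmersion_fiber U g y
    haveI := hj
    haveI : Nonempty (p.fiber y) := by
      have : s y ∈ Set.range (p.fiberι y) := by
        rw [p.range_fiberι]
        show p (s y) = y
        rw [← Scheme.Hom.comp_apply, hs]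
        rfl
      exact ⟨this.choose⟩
    haveI : IsIntegral (Spec (Y.residueField y)) := inferInstance
    exact isIntegral_of_isOpenImmersion j
  haveI : IsIntegral (pullback g q) := Groth.Agent.S8886.result p (hfib _)
  rintro c' ⟨L, rfl, hL⟩
  obtain ⟨j, hj⟩ := exists_openImmersion_fiber U g (genericPoint Y)
  haveI := hj
  obtain ⟨N, hN, hLN⟩ := invertible_eq_pullback p hY hfib (Or.inr inferInstance) L hL
    (trivial_of_open_affineSpace (F := Y.residueField (genericPoint Y)) j (AmpleDevLib.isInvertible_pb _ hL))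
  obtain ⟨i⟩ := hLN
  refine ⟨PicF.cl N, ⟨⟨N, rfl, hN⟩, Quot.sound ⟨i.symm⟩⟩, ?_⟩
  rintro c ⟨⟨N', rfl, hN'⟩, hc⟩
  have h1 := congrArg (PicF.pullCl s) (show PicF.pullCl p (PicF.cl N') = PicF.pullCl p (PicF.cl N) from hc.trans (Quot.sound ⟨i⟩))
  have hid : ∀ M : Y.Modules, PicF.pullCl s (PicF.pullCl p (PicF.cl M)) = PicF.cl M := fun M =>
    Quot.sound ⟨(Scheme.Modules.pullbackComp s p).app M ≪≫ (Scheme.Modules.pullbackCongr hs).app M ≪≫
      (Scheme.Modules.pullbackId Y).app M⟩
  rwa [hid, hid] at h1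

end

end SquareLib

end
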