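import Groth.Agent.RpushLib.BCMap
import Groth.Agent.TwistLib.ProjSymExt
import Groth.Agent.TwistLib.SpecSections
import Groth.Agent.CohCmpLib.UnitFibre
import Groth.Agent.CurvLib.Line

/-!
Global sections after a flat extension of the base, and descent of triviality.
-/

set_option autoImplicit false
set_option linter.style.haveILetI false

universe u

open CategoryTheory CategoryTheory.Limits AlgebraicGeometry TopologicalSpace TensorProduct
open KFlatLib (pb puSec)
open AmpleLib (res GenAt GenOn)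

noncomputable section

namespace SquareLib

variable {X X' S S' : Scheme.{u}} {g : S' ⟶ S} {g' : X' ⟶ X} {f : X ⟶ S} {f' : X' ⟶ S'}

/-- The global sections after the base change are generated by those before. -/
theorem span_puSec_top (H : IsPullback g' f' f g) [QuasiCompact f] [QuasiSeparated f] [Flat g] [IsAffine S]
    [IsAffine S'] (M : X.Modules) [Coh.IsQCoh M] (t : Γ(pb g' M, ⊤)) :
    t ∈ AddSubgroup.closure {m : Γ(pb g' M, (⊤ : X'.Opens)) |
      ∃ (b : Γ(S', ⊤)) (σ : Γ(M, ⊤)), m = f'.appTop b • (show Γ(pb g' M, (⊤ : X'.Opens)) from puSec g' σ)} := by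
  set G := {m : Γ(pb g' M, (⊤ : X'.Opens)) |
      ∃ (b : Γ(S', ⊤)) (σ : Γ(M, ⊤)), m = f'.appTop b • (show Γ(pb g' M, (⊤ : X'.Opens)) from puSec g' σ)}
  letI := (g.appLE ⊤ ⊤ le_top).hom.toAlgebra
  have hb := RpushLib.bijective_bc_zero H M (isAffineOpen_top S) (isAffineOpen_top S')
    (le_top : (⊤ : S'.Opens) ≤ g ⁻¹ᵁ ⊤)
  let U : X'.Opens := g' ⁻¹ᵁ (f ⁻¹ᵁ ⊤) ⊓ f' ⁻¹ᵁ ⊤
  have hU : (⊤ : X'.Opens) ≤ U := le_inf le_top le_top
  obtain ⟨x, hx⟩ := hb.2 (res (pb g' M) (le_top : U ≤ ⊤) t)
  let u := RpushLib.secMap₀ (σ := algebraMap Γ(S, ⊤) Γ(S', ⊤)) g' (f.app ⊤).hom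
    (f'.appLE ⊤ U inf_le_right).hom inf_le_left
    (fun r => congr($(RpushLib.bc_compat H (le_top : (⊤ : S'.Opens) ≤ g ⁻¹ᵁ ⊤) inf_le_left inf_le_right) r))
    ((Scheme.Modules.pullbackPushforwardAdjunction g').unit.app M)
  have key : ∀ x, res (pb g' M) hU (show Γ(pb g' M, U) from RpushLib.extSL u x) ∈ AddSubgroup.closure G := by
    intro x
    induction x using TensorProduct.induction_on with
    | zero =>
      convert AddSubgroup.zero_mem _
      exact (congrArg _ (map_zero (RpushLib.extSL _))).trans (map_zero ((pb g' M).presheaf.map (homOfLE hU).op).hom)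
    | tmul b σ =>
      refine AddSubgroup.subset_closure ⟨b, σ, ?_⟩
      refine (congrArg (fun z => res (pb g' M) hU (show Γ(pb g' M, U) from z)) (RpushLib.extSL_tmul u b σ)).trans ?_
      refine (AmpleLib.res_smul _ hU (f'.appLE ⊤ U inf_le_right b) _).trans ?_
      refine congrArg₂ (· • ·) ?_ ((AmpleLib.res_res _ _ hU _).trans (AmpleLib.res_refl _ _))
      rw [← ConcreteCategory.comp_apply, Scheme.Hom.appLE_map, Scheme.Hom.appTop, Scheme.Hom.app_eq_appLE]
      rfl
    | add x y hx hy =>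
      convert AddSubgroup.add_mem _ hx hy using 1
      exact (congrArg _ (map_add (RpushLib.extSL _) x y)).trans (map_add ((pb g' M).presheaf.map (homOfLE hU).op).hom _ _)
  have h := key x
  rwa [hx, AmpleLib.res_res, AmpleLib.res_refl] at h

/-- Triviality descends along a flat extension of the base with only constant functions upstairs. -/
theorem trivial_of_baseChange (H : IsPullback g' f' f g) [QuasiCompact f] [QuasiSeparated f] [Flat g] [Surjective g]
    [IsAffine S] [IsAffine S'] [Nonempty X'] (hR : ∀ c : Γ(X', ⊤), c = 0 ∨ IsUnit c)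
    {L : X.Modules} (hL : PicF.IsInvertible L) (h : Nonempty (pb g' L ≅ Coh.structureModule X')) :
    Nonempty (L ≅ Coh.structureModule X) := by
  haveI : Coh.IsQCoh L := TwistLib.isQCoh_of_isInvertible hL
  haveI : Surjective g' := MorphismProperty.of_isPullback (P := @Surjective) H.flip ‹Surjective g›
  obtain ⟨τ⟩ := h
  let s : Γ(pb g' L, (⊤ : X'.Opens)) := τ.inv.app ⊤ (1 : Γ(X', ⊤))
  have hs : GenOn (pb g' L) s := TwistLib.genOn_of_genAt fun z _ =>
    (TwistLib.genAt_app_iso τ.symm _ _).2 ((AmpleLib.one_genOn ⊤).genAt _)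
  by_cases hex : ∃ (σ : Γ(L, ⊤)) (c : Γ(X', ⊤)), IsUnit c ∧ (show Γ(pb g' L, (⊤ : X'.Opens)) from puSec g' σ) = c • s
  · obtain ⟨σ, c, hc, hσ⟩ := hex
    have hgen : GenOn L σ := TwistLib.genOn_of_genAt fun x _ => by
      obtain ⟨z, rfl⟩ := g'.surjective x
      obtain ⟨U, e, hxU, he⟩ := TwistLib.exists_genOn hL (g' z)
      refine (TwistLib.genAt_puSec_iff g' he σ (x := z) hxU).1 ?_
      show GenAt (pb g' L) (show Γ(pb g' L, (⊤ : X'.Opens)) from puSec g' σ) (show z ∈ (⊤ : X'.Opens) from trivial)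
      rw [hσ]
      refine (AmpleLib.genAt_smul_iff c s _ (hs.genAt (show z ∈ (⊤ : X'.Opens) from trivial))).2 ?_
      rw [Scheme.basicOpen_of_isUnit _ hc]
      trivial
    exact ⟨(@asIso _ _ _ _ _ (AmpleLib.isIso_unitHom σ hgen)).symm⟩
  · exfalso
    push Not at hex
    have hzero : ∀ m, m ∈ AddSubgroup.closure {m : Γ(pb g' L, (⊤ : X'.Opens)) |
        ∃ (b : Γ(S', ⊤)) (σ : Γ(L, ⊤)), m = f'.appTop b • (show Γ(pb g' L, (⊤ : X'.Opens)) from puSec g' σ)} → m = 0 := by
      intro m hm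
      induction hm using AddSubgroup.closure_induction with
      | mem m hm =>
        obtain ⟨b, σ, rfl⟩ := hm
        obtain ⟨c, hc⟩ := (hs ⊤ le_rfl).2 (show Γ(pb g' L, (⊤ : X'.Opens)) from puSec g' σ)
        dsimp only at hc
        rw [AmpleLib.res_refl] at hc
        rcases hR c with rfl | hu
        · rw [← hc, zero_smul, smul_zero]
        · exact absurd hc.symm (hex σ c hu)
      | zero => rfl
      | add x y _ _ hx hy => rw [hx, hy, add_zero]
      | neg x _ hx => rw [hx, neg_zero]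
    have hs0 : s = 0 := hzero s (span_puSec_top H L s)
    have h10 : (1 : Γ(X', ⊤)) = 0 := (hs ⊤ le_rfl).1 (by
      simp only [hs0, smul_zero, map_zero]
      )
    haveI : Nonempty (⊤ : X'.Opens) := ⟨⟨Classical.arbitrary X', trivial⟩⟩
    exact one_ne_zero h10

/-- Functions after a base change are constant, if they are so before. -/
theorem exists_eq_appTop (H : IsPullback g' f' f g) [QuasiCompact f] [QuasiSeparated f] [Flat g] [IsAffine S]
    [IsAffine S'] (hf : Function.Surjective f.appTop) (c : Γ(X', ⊤)) : ∃ b, f'.appTop b = c := by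
  haveI : Coh.IsQCoh (Coh.structureModule X) := TwistLib.isQCoh_of_isInvertible (CurvLib.isInvertible_structureModule)
  let i := KFlatLib.pullUnitIso g'
  have key : ∀ m, m ∈ AddSubgroup.closure {m : Γ(pb g' (Coh.structureModule X), (⊤ : X'.Opens)) |
      ∃ (b : Γ(S', ⊤)) (σ : Γ(Coh.structureModule X, ⊤)),
        m = f'.appTop b • (show Γ(pb g' (Coh.structureModule X), (⊤ : X'.Opens)) from puSec g' σ)} →
      ∃ b, f'.appTop b = (show Γ(X', ⊤) from i.hom.app ⊤ m) := by
    intro m hm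
    induction hm using AddSubgroup.closure_induction with
    | mem m hm =>
      obtain ⟨b, σ, rfl⟩ := hm
      obtain ⟨a, ha⟩ := hf σ
      refine ⟨b * g.appTop a, ?_⟩
      rw [map_mul]
      refine Eq.trans ?_ (Scheme.Modules.Hom.app_smul i.hom (f'.appTop b) _).symm
      show _ = f'.appTop b * _
      congr 1
      refine Eq.trans ?_ (CohCmpLib.pullUnitIso_puSec g' (U := ⊤) σ).symm
      rw [← ha]
      show (g.appTop ≫ f'.appTop) a = (f.appTop ≫ g'.appTop) a
      rw [← Scheme.Hom.comp_appTop, ← Scheme.Hom.comp_appTop, H.w]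
    | zero => exact ⟨0, by rw [map_zero]; exact (map_zero (i.hom.app ⊤).hom).symm⟩
    | add x y _ _ hx hy =>
      obtain ⟨a, ha⟩ := hx
      obtain ⟨b, hb⟩ := hy
      exact ⟨a + b, by rw [map_add, ha, hb]; exact (map_add (i.hom.app ⊤).hom x y).symm⟩
    | neg x _ hx =>
      obtain ⟨a, ha⟩ := hx
      exact ⟨-a, by rw [map_neg, ha]; exact (map_neg (i.hom.app ⊤).hom x).symm⟩
  obtain ⟨b, hb⟩ := key _ (span_puSec_top H (Coh.structureModule X) (i.inv.app ⊤ c))
  refine ⟨b, hb.trans ?_⟩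
  show (i.inv.app ⊤ ≫ i.hom.app ⊤) c = c
  rw [← Scheme.Modules.Hom.comp_app, i.inv_hom_id]
  rfl

end SquareLib

end
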