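import Groth.Agent.SquareLib.Curve
import Groth.Agent.S0384
import Groth.Agent.ModPairLib.Basic
import Groth.Agent.Ref1Lib.DivProps

/-!
A smooth enlargement of a variety without nonconstant functions.
-/

set_option autoImplicit false
set_option linter.style.haveILetI false
set_option maxHeartbeats 1000000

noncomputable section

universe u

open CategoryTheory CategoryTheory.Limits AlgebraicGeometry TopologicalSpace

namespace SquareLib

variable {k : Type u} [Field k] [IsAlgClosed k]

theorem surjective_appTop_of_proper {Y : Scheme.{u}} (t : Y ⟶ Spec (CommRingCat.of k)) [IsProper t] [IsIntegral Y] :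
    Function.Surjective t.appTop := by
  have hfin := finite_appTop_of_universallyClosed k t
  letI := (isField_of_universallyClosed k t).toField
  have hfin' : ((t.appTop.hom).comp (Scheme.ΓSpecIso (CommRingCat.of k)).inv.hom).Finite :=
    RingHom.Finite.comp hfin (RingHom.Finite.of_surjective _
      (Scheme.ΓSpecIso (CommRingCat.of k)).commRingCatIsoToRingEquiv.symm.surjective)
  letI : Algebra k Γ(Y, ⊤) := ((t.appTop.hom).comp (Scheme.ΓSpecIso (CommRingCat.of k)).inv.hom).toAlgebra
  haveI : Module.Finite k Γ(Y, ⊤) := hfin'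
  intro x
  obtain ⟨c, hc⟩ := (IsAlgClosed.algebraMap_bijective_of_isIntegral (k := k) (K := Γ(Y, ⊤))).2 x
  exact ⟨(Scheme.ΓSpecIso (CommRingCat.of k)).inv c, hc⟩

/-- A normal proper variety containing a given smooth one. -/
theorem exists_normal_completion {X : Scheme.{u}} (s : X ⟶ Spec (CommRingCat.of k)) [Smooth s] [IsSeparated s]
    [QuasiCompact s] [IsIntegral X] :
    ∃ (N : Scheme.{u}) (t : N ⟶ Spec (CommRingCat.of k)) (j : X ⟶ N), IsOpenImmersion j ∧ j ≫ t = s ∧
      IsProper t ∧ IsIntegral N ∧ Pi1.IsNormalScheme N := by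
  letI : X.Over (Spec (CommRingCat.of k)) := ⟨s⟩
  haveI : Smooth (X ↘ Spec (CommRingCat.of k)) := inferInstanceAs (Smooth s)
  haveI : CompactSpace (Spec (CommRingCat.of k)) := inferInstance
  obtain ⟨Xc, j₀, g, hj₀, hqc, hg, hjg⟩ := Groth.Agent.S0384.result s
  haveI := hj₀; haveI := hqc; haveI := hg
  let j : X ⟶ j₀.image := j₀.toImage
  let t : j₀.image ⟶ Spec (CommRingCat.of k) := j₀.imageι ≫ g
  have hjt : j ≫ t = s := by rw [Scheme.Hom.toImage_imageι_assoc]; exact hjg
  haveI : IsProper t := inferInstance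
  haveI : IsOpenImmersion j := inferInstance
  haveI : QuasiCompact j := inferInstance
  haveI : IsDominant j := inferInstance
  letI : j₀.image.Over (Spec (CommRingCat.of k)) := ⟨t⟩
  haveI : LocallyOfFiniteType (j₀.image ↘ Spec (CommRingCat.of k)) := inferInstanceAs (LocallyOfFiniteType t)
  haveI : IsSchemeTheoreticallyDominant j := ModPairLib.isDominant_toImage
  haveI : IsReduced j₀.image := IsSchemeTheoreticallyDominant.isReduced j
  haveI : IrreducibleSpace j₀.image := by
    have h := ((IrreducibleSpace.isIrreducible_univ X).image j.base j.continuous.continuousOn).closure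
    rw [Set.image_univ, j.denseRange.closure_range] at h
    exact { isPreirreducible_univ := h.2, toNonempty := ⟨j (Classical.arbitrary _)⟩ }
  haveI : IsIntegral j₀.image := isIntegral_of_irreducibleSpace_of_isReduced j₀.image
  haveI : IsLocallyNoetherian j₀.image := LocallyOfFiniteType.isLocallyNoetherian t
  haveI : IsLocallyNoetherian X := LocallyOfFiniteType.isLocallyNoetherian s
  haveI : QuasiCompact (j₀.image.fromSpecStalk (genericPoint j₀.image)) := inferInstance
  haveI : QuasiSeparated (j₀.image.fromSpecStalk (genericPoint j₀.image)) := inferInstance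
  obtain ⟨hν, -, -, hint, hN⟩ := Groth.Agent.S1585.result k j₀.image
  let ν := Curv2.normalizationι j₀.image
  haveI := hν; haveI := hint
  have hnorm : ∀ y ∈ j.opensRange, IsIntegrallyClosed (j₀.image.presheaf.stalk y) := by
    rintro _ ⟨x, rfl⟩
    haveI := CurveVBLib.regular_stalk (k := k) x
    haveI := CommAlgDim.isDomain_of_isRegularLocalRing (X.presheaf.stalk x)
    haveI := NormalLib.isIntegrallyClosed_of_isRegularLocalRing (X.presheaf.stalk x)
    exact IsIntegrallyClosed.of_equiv (asIso (j.stalkMap x)).commRingCatIsoToRingEquiv.symm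
  haveI hiso : IsIso (ν ∣_ j.opensRange) :=
    Groth.Agent.S5950.isIso_normalizationι_restrict j₀.image j.opensRange ⟨j (Classical.arbitrary _), _, rfl⟩ hnorm
  let jn : X ⟶ Curv2.normalization j₀.image := j.isoOpensRange.hom ≫ inv (ν ∣_ j.opensRange) ≫ (ν ⁻¹ᵁ j.opensRange).ι
  have hjn : jn ≫ ν = j := by
    simp only [jn, Category.assoc]
    rw [← morphismRestrict_ι, IsIso.inv_hom_id_assoc, Scheme.Hom.isoOpensRange_hom_ι]
  refine ⟨_, ν ≫ t, jn, inferInstance, ?_, inferInstance, hint, hN⟩
  rw [reassoc_of% hjn]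
  exact hjt

theorem isRegularLocalRing_of_coheight {N : Scheme.{u}} [IsIntegral N] [IsLocallyNoetherian N]
    (hN : Pi1.IsNormalScheme N) {x : N} (hx : Order.coheight x = 1) : IsRegularLocalRing (N.presheaf.stalk x) := by
  haveI := (hN x).1
  haveI := (hN x).2
  refine MiscFlat6.isRegularLocalRing_of_normal_dim_le_one _ ?_
  rw [AlgebraicGeometry.ringKrullDim_stalk_eq_coheight, hx]
  rfl

/-- A smooth enlargement all whose functions are constant. -/
theorem exists_enlargement {X : Scheme.{u}} (s : X ⟶ Spec (CommRingCat.of k)) [Smooth s] [IsSeparated s]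
    [QuasiCompact s] [GeometricallyIntegral s] :
    ∃ (X' : Scheme.{u}) (s' : X' ⟶ Spec (CommRingCat.of k)) (j : X ⟶ X'), IsOpenImmersion j ∧ j ≫ s' = s ∧
      Smooth s' ∧ IsSeparated s' ∧ QuasiCompact s' ∧ GeometricallyIntegral s' ∧ Function.Surjective s'.appTop := by
  haveI : IsIntegral X := GeometricallyIntegral.isIntegral_of_subsingleton s
  obtain ⟨N, t, j, hj, hjt, ht, hint, hN⟩ := exists_normal_completion s
  haveI := hj; haveI := ht; haveI := hint
  haveI : LocallyOfFinitePresentation t := LocallyOfFinitePresentation.iff_locallyOfFiniteType.2 inferInstance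
  haveI : IsLocallyNoetherian N := LocallyOfFiniteType.isLocallyNoetherian t
  letI : N.Over (Spec (CommRingCat.of k)) := ⟨t⟩
  haveI : LocallyOfFinitePresentation (N ↘ Spec (CommRingCat.of k)) := inferInstanceAs (LocallyOfFinitePresentation t)
  let O : N.Opens := t.smoothLocus
  have hjO : j.opensRange ≤ O := by
    rintro _ ⟨x, rfl⟩
    show x ∈ j ⁻¹ᵁ t.smoothLocus
    rw [Scheme.Hom.preimage_smoothLocus_eq, Scheme.Hom.smoothLocus_eq_top_iff.2 (hjt ▸ inferInstance : Smooth (j ≫ t))]
    trivial
  let s' : O.toScheme ⟶ Spec (CommRingCat.of k) := O.ι ≫ t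
  haveI hs' : Smooth s' := by
    rw [← Scheme.Hom.smoothLocus_eq_top_iff, ← Scheme.Hom.preimage_smoothLocus_eq, Scheme.Opens.ι_preimage_self]
  let jo : X ⟶ O.toScheme := IsOpenImmersion.lift O.ι j (by
    rw [Scheme.Opens.range_ι]
    exact fun y ⟨x, hx⟩ => hjO ⟨x, hx⟩)
  have hjo : jo ≫ O.ι = j := IsOpenImmersion.lift_fac _ _ _
  haveI : IsOpenImmersion jo := by
    haveI : IsOpenImmersion (jo ≫ O.ι) := hjo ▸ hj
    exact IsOpenImmersion.of_comp jo O.ι
  haveI : Nonempty O.toScheme := ⟨jo (Classical.arbitrary _)⟩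
  haveI : IsIntegral O.toScheme := isIntegral_of_isOpenImmersion O.ι
  haveI : CompactSpace N := QuasiCompact.compactSpace_of_compactSpace t
  haveI : IsNoetherian N := ⟨⟩
  haveI : QuasiCompact s' := inferInstance
  refine ⟨O.toScheme, s', jo, inferInstance, by rw [reassoc_of% hjo]; exact hjt, hs', inferInstance, inferInstance,
    geometricallyIntegral_of_connected s', fun r => ?_⟩
  have hηO : genericPoint N ∈ O := CDivCoreLib.mem_of_open (hjO ⟨Classical.arbitrary X, rfl⟩)
  obtain ⟨r₀, rfl⟩ : ∃ r₀ : Γ(N, O), O.topIso.inv r₀ = r := ⟨O.topIso.hom r, by rw [← ConcreteCategory.comp_apply, Iso.hom_inv_id]; rfl⟩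
  obtain ⟨R, hR⟩ := Ref1Lib.exists_section_of_reg' (U := (⊤ : N.Opens)) (show genericPoint N ∈ (⊤ : N.Opens) from trivial)
    (N.presheaf.germ O _ hηO r₀) fun x _ => CDivCoreLib.reg_of_coheight_one hN fun y _ hy => by
      have hyO : y ∈ O := ((Groth.Agent.S1561.result k N).1 y).2 (isRegularLocalRing_of_coheight hN hy)
      exact ⟨N.presheaf.germ O y hyO r₀, CDivCoreLib.algebraMap_germ hyO hηO r₀⟩
  obtain ⟨b, rfl⟩ := surjective_appTop_of_proper t R
  refine ⟨b, ?_⟩
  have hres : N.presheaf.map (homOfLE (le_top : O ≤ ⊤)).op (t.appTop b) = r₀ :=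
    germ_injective_of_isIntegral N _ hηO (by rw [TopCat.Presheaf.germ_res_apply]; exact hR)
  rw [← hres]
  show (t.appTop ≫ O.ι.appTop) b = (t.appTop ≫ N.presheaf.map (homOfLE (le_top : O ≤ ⊤)).op ≫ O.topIso.inv) b
  congr 3
  rw [Scheme.Opens.topIso_inv, Scheme.Hom.appTop, Scheme.Opens.ι_app]
  exact N.presheaf.map_comp _ _

end SquareLib

end
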