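import Groth.Agent.SquareLib.Chain
import Groth.Agent.SecNhdLib.Smooth
import Groth.Agent.AlgSpLib.TrdegInv
import Groth.Agent.S2277
import Mathlib.RingTheory.PolynomialAlgebra
import Mathlib.RingTheory.KrullDimension.Polynomial

/-!
Any two rational points of a smooth variety are linked by a chain of curves.
-/

set_option autoImplicit false
set_option linter.style.haveILetI false
set_option maxRecDepth 8000
set_option maxHeartbeats 1000000

noncomputable section

universe u

open CategoryTheory CategoryTheory.Limits MonoidalCategory CartesianMonoidalCategory AlgebraicGeometry TopologicalSpace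
open CubeConsLib
open scoped TensorProduct

namespace SquareLib

variable {K : Type u} [Field K] [IsAlgClosed K]

/-- The point underlying a rational point. -/
def img {U : Over (Spec (CommRingCat.of K))} (a : 𝟙_ _ ⟶ U) : U.left := a.left (IsLocalRing.closedPoint K)

theorem ext_point {U : Over (Spec (CommRingCat.of K))} [LocallyOfFiniteType U.hom] {a b : 𝟙_ _ ⟶ U}
    (h : img a = img b) : a = b :=
  Over.OverMorphism.ext (ext_of_apply_closedPoint_eq U.hom (Over.w a) (Over.w b) h)

theorem exists_point_at {U : Over (Spec (CommRingCat.of K))} [LocallyOfFiniteType U.hom] {x : U.left}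
    (hx : IsClosed ({x} : Set U.left)) : ∃ a : 𝟙_ _ ⟶ U, img a = x :=
  ⟨Over.homMk (pointOfClosedPoint U.hom x hx) (pointOfClosedPoint_comp U.hom x hx), pointOfClosedPoint_apply _ _ _ _⟩

theorem isClosed_img {U : Over (Spec (CommRingCat.of K))} [LocallyOfFiniteType U.hom] (a : 𝟙_ _ ⟶ U) :
    IsClosed ({img a} : Set U.left) :=
  (pointEquivClosedPoint U.hom ⟨a.left, Over.w a⟩).2

theorem dim_stalk_spec_le (A : CommRingCat.{u}) (x : Spec A) :
    ringKrullDim ((Spec A).presheaf.stalk x) ≤ ringKrullDim A := by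
  refine (MiscFlat6.ringKrullDim_stalk_le (Spec A) x).trans (le_of_eq ?_)
  exact PrimeSpectrum.topologicalKrullDim_eq_ringKrullDim A

/-- The space of a Noetherian scheme is locally connected. -/
theorem locallyConnected (X : Scheme.{u}) [IsLocallyNoetherian X] : LocallyConnectedSpace X :=
  Groth.Agent.S2277.result _ fun z => by
    obtain ⟨_, ⟨W, hW, rfl⟩, hzW, -⟩ :=
      X.isBasis_affineOpens.exists_subset_of_mem_open (Set.mem_univ z) isOpen_univ
    haveI : IsNoetherianRing Γ(X, W) := IsLocallyNoetherian.component_noetherian ⟨W, hW⟩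
    exact ⟨W, W.2.mem_nhds hzW, noetherianSpace_of_isAffineOpen W hW⟩

theorem smooth_mv (R : Type u) [CommRing R] (n : ℕ) : Algebra.Smooth R (MvPolynomial (Fin n) R) :=
  ⟨inferInstance, inferInstance⟩

theorem smooth_poly (R : Type u) [CommRing R] : Algebra.Smooth R (Polynomial R) := by
  haveI : Algebra.Smooth R (MvPolynomial PUnit.{u+1} R) := ⟨inferInstance, inferInstance⟩
  exact Algebra.Smooth.of_equiv (MvPolynomial.pUnitAlgEquiv R)

/-- The connected component of a point of a smooth scheme of finite type. -/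
theorem exists_component (F : Over (Spec (CommRingCat.of K))) [Smooth F.hom] [IsSeparated F.hom] [QuasiCompact F.hom]
    (x : F.left) : ∃ (C : Over (Spec (CommRingCat.of K))) (i : C ⟶ F), IsOpenImmersion i.left ∧
      Smooth C.hom ∧ IsSeparated C.hom ∧ QuasiCompact C.hom ∧ GeometricallyIntegral C.hom ∧
      Set.range i.left = connectedComponent x := by
  haveI : IsLocallyNoetherian F.left := LocallyOfFiniteType.isLocallyNoetherian F.hom
  haveI : CompactSpace F.left := QuasiCompact.compactSpace_of_compactSpace F.hom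
  haveI : IsNoetherian F.left := ⟨⟩
  haveI := locallyConnected F.left
  let O : F.left.Opens := ⟨connectedComponent x, isOpen_connectedComponent⟩
  haveI : QuasiCompact O.ι := inferInstance
  haveI : Smooth (O.ι ≫ F.hom) := inferInstance
  haveI : QuasiCompact (O.ι ≫ F.hom) := inferInstance
  haveI : ConnectedSpace ↥(O : Scheme.{u}) := Subtype.connectedSpace (s := connectedComponent x) isConnected_connectedComponent
  exact ⟨Over.mk (O.ι ≫ F.hom), Over.homMk O.ι rfl, inferInstanceAs (IsOpenImmersion O.ι), inferInstanceAs (Smooth (O.ι ≫ F.hom)),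
    inferInstanceAs (IsSeparated (O.ι ≫ F.hom)), inferInstanceAs (QuasiCompact (O.ι ≫ F.hom)),
    geometricallyIntegral_of_connected (O.ι ≫ F.hom), O.range_ι⟩

/-- Rational points with images in an open subscheme lift to it. -/
theorem exists_lift {C F : Over (Spec (CommRingCat.of K))} (i : C ⟶ F) [IsOpenImmersion i.left] (a : 𝟙_ _ ⟶ F)
    (h : img a ∈ Set.range i.left) : ∃ c : 𝟙_ _ ⟶ C, c ≫ i = a := by
  have hr : Set.range a.left ⊆ Set.range i.left := by
    rintro _ ⟨z, rfl⟩
    rwa [show z = IsLocalRing.closedPoint K from Subsingleton.elim (α := PrimeSpectrum K) _ _]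
  refine ⟨Over.homMk (IsOpenImmersion.lift i.left a.left hr) ?_, Over.OverMorphism.ext (IsOpenImmersion.lift_fac _ _ _)⟩
  rw [← Over.w i, ← Category.assoc, IsOpenImmersion.lift_fac, Over.w a]

/-- A smooth variety with an étale map to an affine space of dimension at most one is a curve. -/
theorem isCrv_of_etale (U : Over (Spec (CommRingCat.of K))) [Smooth U.hom] [IsSeparated U.hom] [QuasiCompact U.hom]
    [GeometricallyIntegral U.hom] {A : CommRingCat.{u}} (hA : ringKrullDim A ≤ 1) (g : U.left ⟶ Spec A) [Etale g] :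
    IsCrv U := by
  refine ⟨inferInstance, inferInstance, inferInstance, inferInstance, topologicalKrullDim_le_of_stalks fun x => ?_⟩
  rw [AlgSpLib.ringKrullDim_stalk_etale g x]
  exact (dim_stalk_spec_le A _).trans hA

theorem onCurve_of_isCrv {U : Over (Spec (CommRingCat.of K))} (h : IsCrv U) (a a' : 𝟙_ _ ⟶ U) : Linked U a a' :=
  .rel _ _ ⟨U, 𝟙 U, a, a', h, Category.comp_id _, Category.comp_id _⟩

/-- The coordinates. -/
abbrev Aff (K : Type u) [Field K] (n : ℕ) : CommRingCat.{u} := CommRingCat.of (MvPolynomial (Fin n) K)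

/-- Linking, for schemes étale over an affine space. -/
theorem linked_of_etale : ∀ (n : ℕ) (U : Over (Spec (CommRingCat.of K))) [Smooth U.hom] [IsSeparated U.hom]
    [QuasiCompact U.hom] [GeometricallyIntegral U.hom] (g : U.left ⟶ Spec (Aff K n)) [Etale g]
    (_ : g ≫ Spec.map (CommRingCat.ofHom MvPolynomial.C) = U.hom) (a a' : 𝟙_ _ ⟶ U), Linked U a a' := by
  intro n
  induction n with
  | zero =>
    intro U _ _ _ _ g _ _ a a'
    refine onCurve_of_isCrv (isCrv_of_etale U (A := Aff K 0) ?_ g) a a'
    rw [show ringKrullDim (Aff K 0) = 0 from (MvPolynomial.ringKrullDim_of_isNoetherianRing (R := K) (ι := Fin 0)).trans (by simp [ringKrullDim_eq_zero_of_field])]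
    exact zero_le_one
  | succ n ih =>
    intro U _ _ _ _ g _ hg a a'
    haveI : IsIntegral U.left := GeometricallyIntegral.isIntegral_of_subsingleton U.hom
    haveI : JacobsonSpace U.left := LocallyOfFiniteType.jacobsonSpace U.hom
    suffices H : ∀ a : 𝟙_ _ ⟶ U, ∃ O : U.left.Opens, img a ∈ O ∧ ∀ v : 𝟙_ _ ⟶ U, img v ∈ O → Linked U a v by
      obtain ⟨O, haO, hO⟩ := H a
      obtain ⟨O', haO', hO'⟩ := H a'
      obtain ⟨x, hx, hxc⟩ := nonempty_inter_closedPoints (Z := ((O ⊓ O' : U.left.Opens) : Set U.left))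
        (nonempty_preirreducible_inter O.2 O'.2 ⟨_, haO⟩ ⟨_, haO'⟩) (O ⊓ O').2.isLocallyClosed
      obtain ⟨v, rfl⟩ := exists_point_at hxc
      exact .trans _ _ _ (hO v hx.1) (.symm _ _ (hO' v hx.2))
    intro a
    let R := MvPolynomial (Fin n) K
    let A : CommRingCat.{u} := CommRingCat.of (Polynomial R)
    let g' : U.left ⟶ Spec A := g ≫
      Spec.map ((MvPolynomial.finSuccEquiv K n).symm.toRingEquiv.toCommRingCatIso.hom)
    haveI : Etale g' := inferInstance
    let p : Spec A ⟶ Spec (Aff K n) := Spec.map (CommRingCat.ofHom (Polynomial.C : R →+* Polynomial R))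
    haveI : Smooth p := (HasRingHomProperty.Spec_iff (P := @Smooth)).2 (RingHom.smooth_algebraMap.2 (smooth_poly R))
    have hstr : g' ≫ p ≫ Spec.map (CommRingCat.ofHom MvPolynomial.C) = U.hom := by
      rw [← hg, Category.assoc]
      congr 1
      show (Spec.map _ ≫ Spec.map _) ≫ Spec.map _ = _
      rw [← Spec.map_comp, ← Spec.map_comp]
      congr 1
      refine CommRingCat.hom_ext (RingHom.ext fun c => ?_)
      show (MvPolynomial.finSuccEquiv K n).symm (Polynomial.C (MvPolynomial.C c)) = MvPolynomial.C c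
      rw [AlgEquiv.symm_apply_eq]
      simp [MvPolynomial.finSuccEquiv_apply]
    -- the section through `a`
    obtain ⟨ev, hev⟩ : ∃ ev : Polynomial R →+* K, Spec.map (CommRingCat.ofHom ev) = a.left ≫ g' :=
      ⟨(Spec.preimage (a.left ≫ g')).hom, Spec.map_preimage _⟩
    have hevC : ∀ c : K, ev (Polynomial.C (MvPolynomial.C c)) = c := by
      have h1 : Spec.map (CommRingCat.ofHom (ev.comp ((Polynomial.C : R →+* Polynomial R).comp MvPolynomial.C))) =
          Spec.map (𝟙 (CommRingCat.of K)) := by
        rw [CommRingCat.ofHom_comp, CommRingCat.ofHom_comp, Spec.map_comp, Spec.map_comp, hev, Spec.map_id]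
        simp only [Category.assoc]
        rw [hstr]
        exact Over.w a
      intro c
      exact DFunLike.congr_fun (congrArg CommRingCat.Hom.hom (Spec.map_injective h1)) c
    let t : K := ev Polynomial.X
    let σ : Spec (Aff K n) ⟶ Spec A := Spec.map (CommRingCat.ofHom (Polynomial.evalRingHom (MvPolynomial.C t : R)))
    have hσ : σ ≫ p = 𝟙 _ := by
      rw [← Spec.map_comp, ← Spec.map_id]
      congr 1
      refine CommRingCat.hom_ext (RingHom.ext fun r => ?_)
      exact Polynomial.eval_C
    have haσ : a.left ≫ g' = (a.left ≫ g' ≫ p) ≫ σ := by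
      rw [← Category.assoc a.left g', ← hev, ← Spec.map_comp, ← Spec.map_comp]
      congr 1
      refine CommRingCat.hom_ext (Polynomial.ringHom_ext (fun r => ?_) ?_)
      · simp
      · simp [t, hevC]
    let h₀ : pullback g' σ ⟶ Spec (Aff K n) := pullback.snd g' σ
    haveI : Etale h₀ := MorphismProperty.pullback_snd _ _ ‹_›
    haveI : Smooth (Spec.map (CommRingCat.ofHom (R := K) (S := R) MvPolynomial.C)) :=
      (HasRingHomProperty.Spec_iff (P := @Smooth)).2 (RingHom.smooth_algebraMap.2 (smooth_mv K n))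
    let s : Spec (Aff K n) ⟶ Spec (CommRingCat.of K) := Spec.map (CommRingCat.ofHom MvPolynomial.C)
    haveI : Smooth s := ‹_›
    haveI : LocallyOfFiniteType (Over.mk s).hom := inferInstanceAs (LocallyOfFiniteType s)
    haveI : IsClosedImmersion σ := by
      haveI : IsClosedImmersion (σ ≫ p) := by rw [hσ]; infer_instance
      exact IsClosedImmersion.of_comp σ p
    haveI : QuasiCompact g' := by
      haveI : QuasiCompact (g' ≫ p ≫ s) := by rw [hstr]; infer_instance
      exact QuasiCompact.of_comp g' (p ≫ s)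
    haveI : IsSeparated g' := by
      haveI : IsSeparated (g' ≫ p ≫ s) := by rw [hstr]; infer_instance
      exact IsSeparated.of_comp g' (p ≫ s)
    let H : Over (Spec (CommRingCat.of K)) := Over.mk (h₀ ≫ s)
    let e₀ : H ⟶ U := Over.homMk (pullback.fst g' σ) (by
      show pullback.fst g' σ ≫ U.hom = h₀ ≫ s
      rw [← hstr, pullback.condition_assoc, reassoc_of% hσ])
    haveI : Smooth H.hom := inferInstanceAs (Smooth (h₀ ≫ s))
    haveI : IsSeparated H.hom := inferInstanceAs (IsSeparated (h₀ ≫ s))
    haveI : QuasiCompact H.hom := inferInstanceAs (QuasiCompact (h₀ ≫ s))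
    let aH : 𝟙_ _ ⟶ H := Over.homMk (pullback.lift a.left (a.left ≫ g' ≫ p) haσ) (by
      show pullback.lift _ _ _ ≫ pullback.snd g' σ ≫ s = _
      rw [pullback.lift_snd_assoc]
      simp only [Category.assoc]
      rw [hstr]
      exact Over.w a)
    have haH : aH ≫ e₀ = a := Over.OverMorphism.ext (pullback.lift_fst _ _ _)
    obtain ⟨H0, i, hi, hH1, hH2, hH3, hH4, hrange⟩ := exists_component H (img aH)
    obtain ⟨a0, ha0⟩ := exists_lift i aH (hrange ▸ mem_connectedComponent)
    let h : H0.left ⟶ Spec (Aff K n) := i.left ≫ h₀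
    haveI : Etale h := MorphismProperty.comp_mem _ _ _ (inferInstance : Etale i.left) ‹_›
    have hh : h ≫ s = H0.hom := (Category.assoc _ _ _).trans (Over.w i)
    let π : U.left ⟶ Spec (Aff K n) := g' ≫ p
    have hπ : π ≫ s = U.hom := (Category.assoc _ _ _).trans hstr
    have heh : (i ≫ e₀).left ≫ π = h := by
      show (i.left ≫ pullback.fst g' σ) ≫ g' ≫ p = i.left ≫ pullback.snd g' σ
      rw [Category.assoc, pullback.condition_assoc, hσ, Category.comp_id]
    haveI : UniversallyOpen h := inferInstance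
    obtain ⟨O, hO⟩ := SecNhdLib.exists_open_components_meeting π h (i ≫ e₀).left heh
    refine ⟨O, ?_, fun v hv => ?_⟩
    · have hmem : img a ∈ (O : Set U.left) ∩ π ⁻¹' {π (img a)} := by
        rw [hO]
        simp only [Set.mem_iUnion, exists_prop]
        refine ⟨img a, ⟨⟨img a0, ?_⟩, rfl⟩, mem_connectedComponentIn rfl⟩
        conv_rhs => rw [← haH, ← ha0]
        rfl
      exact hmem.1
    have hv' : img v ∈ (O : Set U.left) ∩ π ⁻¹' {π (img v)} := ⟨hv, rfl⟩
    rw [hO] at hv'
    simp only [Set.mem_iUnion, exists_prop] at hv'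
    obtain ⟨_, ⟨⟨w, rfl⟩, hw⟩, hcomp⟩ := hv'
    let ov : 𝟙_ _ ⟶ Over.mk s := v ≫ Over.homMk π hπ
    have hwc : IsClosed ({w} : Set H0.left) := by
      have hs : IsClosed ({π (img v)} : Set (Spec (Aff K n))) := isClosed_img ov
      have hd : _root_.IsDiscrete (h ⁻¹' {π (img v)}) :=
        @Scheme.Hom.isDiscrete_preimage_singleton _ _ h (WeightLib.locallyQuasiFinite_of_etale h) _
      have hwm : w ∈ h ⁻¹' {π (img v)} := by
        show h w = _
        rw [← heh]
        exact hw
      rw [← closure_subset_iff_isClosed]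
      intro w' hw'
      have hm' : w' ∈ h ⁻¹' {π (img v)} :=
        closure_minimal (Set.singleton_subset_iff.2 hwm) (hs.preimage h.continuous) hw'
      haveI := hd.to_subtype
      have hsp : (⟨w, hwm⟩ : h ⁻¹' {π (img v)}) ⤳ ⟨w', hm'⟩ := by
        rw [Topology.IsInducing.subtypeVal.specializes_iff.symm]
        exact specializes_iff_mem_closure.2 hw'
      exact (congrArg Subtype.val hsp.eq).symm
    obtain ⟨q, hq⟩ := exists_point_at hwc
    let b : 𝟙_ _ ⟶ U := q ≫ i ≫ e₀
    have hab : Linked U a b := by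
      have := (ih H0 h hh a0 q).map (i ≫ e₀)
      rwa [reassoc_of% ha0, haH] at this
    -- the fibre
    have hbπ : b.left ≫ π = ov.left := by
      have : b ≫ Over.homMk (V := Over.mk s) π hπ = ov := ext_point (by
        show π ((i ≫ e₀).left (img q)) = π (img v)
        rw [hq]
        exact hw)
      exact congrArg Over.Hom.left this
    haveI : Smooth π := MorphismProperty.comp_mem _ _ _ (inferInstance : Smooth g') ‹_›
    haveI : IsSeparated π := inferInstance
    haveI : QuasiCompact π := inferInstance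
    haveI : IsClosedImmersion ov.left := isClosedImmersion_of_comp_eq_id s _ (Over.w ov)
    let F : Over (Spec (CommRingCat.of K)) := Over.mk (pullback.snd π ov.left)
    let j : F ⟶ U := Over.homMk (pullback.fst π ov.left) (by
      show pullback.fst π ov.left ≫ U.hom = pullback.snd π ov.left
      rw [← hπ, pullback.condition_assoc, show ov.left ≫ s = _ from Over.w ov]
      exact Category.comp_id _)
    haveI : Smooth F.hom := MorphismProperty.pullback_snd _ _ ‹_›
    haveI : IsSeparated F.hom := MorphismProperty.pullback_snd _ _ ‹_›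
    haveI : QuasiCompact F.hom := MorphismProperty.pullback_snd _ _ ‹_›
    let bF : 𝟙_ _ ⟶ F := Over.homMk (pullback.lift b.left (𝟙 _) (hbπ.trans (Category.id_comp _).symm))
      (pullback.lift_snd _ _ _)
    let vF : 𝟙_ _ ⟶ F := Over.homMk (pullback.lift v.left (𝟙 _) (Category.id_comp _).symm) (pullback.lift_snd _ _ _)
    have hbF : bF ≫ j = b := Over.OverMorphism.ext (pullback.lift_fst _ _ _)
    have hvF : vF ≫ j = v := Over.OverMorphism.ext (pullback.lift_fst _ _ _)
    obtain ⟨C, iC, hiC, hC1, hC2, hC3, hC4, hCr⟩ := exists_component F (img bF)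
    have hvC : img vF ∈ Set.range iC.left := by
      rw [hCr, ← connectedComponentIn_univ]
      have hemb : Topology.IsEmbedding (j.left : F.left → U.left) :=
        (pullback.fst π ov.left).isClosedEmbedding.isEmbedding
      have himg : (j.left : F.left → U.left) '' Set.univ = π ⁻¹' {π (img v)} := by
        rw [Set.image_univ]
        show Set.range (pullback.fst π ov.left) = _
        rw [Scheme.Pullback.range_fst]
        congr 1
        ext z
        refine ⟨?_, fun hz => ⟨IsLocalRing.closedPoint K, hz.symm⟩⟩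
        rintro ⟨z', rfl⟩
        rw [Set.mem_singleton_iff, show z' = IsLocalRing.closedPoint K from Subsingleton.elim (α := PrimeSpectrum K) _ _]
        rfl
      have hb' : (j.left : F.left → U.left) (img bF) = (i ≫ e₀).left w := by
        rw [← hq]
        exact congrArg (fun m : 𝟙_ _ ⟶ U => img m) hbF
      have hv'' : (j.left : F.left → U.left) (img vF) = img v := congrArg (fun m : 𝟙_ _ ⟶ U => img m) hvF
      have := SecNhdLib.image_connectedComponentIn hemb (Set.mem_univ (img bF))
      rw [himg, hb'] at this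
      rw [← hemb.injective.mem_set_image, this, hv'']
      exact hcomp
    obtain ⟨c₁, hc₁⟩ := exists_lift iC bF (hCr ▸ mem_connectedComponent)
    obtain ⟨c₂, hc₂⟩ := exists_lift iC vF hvC
    -- the fibre is a curve
    letI : Algebra R K := (ev.comp Polynomial.C).toAlgebra
    have hcrv : IsCrv C := by
      let oπ : Spec (CommRingCat.of K) ⟶ Spec (Aff K n) := ov.left
      let u : C.left ⟶ pullback p oπ := iC.left ≫ pullback.lift (pullback.fst π ov.left ≫ g') (pullback.snd π ov.left)
        (by rw [Category.assoc]; exact pullback.condition)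
      haveI : Etale u := by
        have hsq : IsPullback (pullback.lift (f := p) (g := oπ) (pullback.fst π ov.left ≫ g') (pullback.snd π ov.left)
            (by rw [Category.assoc]; exact pullback.condition)) (pullback.fst π ov.left) (pullback.fst p oπ) g' := by
          refine IsPullback.of_right (h₁₂ := pullback.snd p oπ) (v₁₃ := oπ) (h₂₂ := p) ?_ (pullback.lift_fst _ _ _)
            (IsPullback.of_hasPullback p oπ).flip
          rw [pullback.lift_snd]
          exact (IsPullback.of_hasPullback π ov.left).flip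
        haveI : Etale (pullback.lift (f := p) (g := oπ) (pullback.fst π ov.left ≫ g') (pullback.snd π ov.left)
            (by rw [Category.assoc]; exact pullback.condition)) := MorphismProperty.of_isPullback hsq.flip ‹Etale g'›
        exact MorphismProperty.comp_mem _ _ _ (inferInstance : Etale iC.left) this
      obtain ⟨ρ, hρ⟩ : ∃ ρ : R →+* K, Spec.map (CommRingCat.ofHom ρ) = oπ :=
        ⟨(Spec.preimage oπ).hom, Spec.map_preimage _⟩
      letI : Algebra R K := ρ.toAlgebra
      let u' : C.left ⟶ Spec (CommRingCat.of (Polynomial R ⊗[R] K)) :=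
        u ≫ (pullback.congrHom (rfl : p = _) hρ.symm).hom ≫ (pullbackSpecIso R (Polynomial R) K).hom
      haveI : Etale u' := inferInstance
      refine isCrv_of_etale C (A := CommRingCat.of (Polynomial R ⊗[R] K)) ?_ u'
      have e' := ((Algebra.TensorProduct.comm R (Polynomial R) K).trans (polyEquivTensor R K).symm).toRingEquiv
      rw [show ringKrullDim (CommRingCat.of (Polynomial R ⊗[R] K)) = ringKrullDim (Polynomial K) from
        ringKrullDim_eq_of_ringEquiv e', Polynomial.ringKrullDim_of_isNoetherianRing, ringKrullDim_eq_zero_of_field,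
        zero_add]
    have hbv : Linked U b v := by
      have := (onCurve_of_isCrv hcrv c₁ c₂).map (iC ≫ j)
      rwa [reassoc_of% hc₁, reassoc_of% hc₂, hbF, hvF] at this
    exact .trans _ _ _ hab hbv

/-- Any two rational points of a smooth variety are linked by a chain of curves. -/
theorem linked (U : Over (Spec (CommRingCat.of K))) [Smooth U.hom] [IsSeparated U.hom] [QuasiCompact U.hom]
    [GeometricallyIntegral U.hom] (a a' : 𝟙_ _ ⟶ U) : Linked U a a' := by
  haveI : IsIntegral U.left := GeometricallyIntegral.isIntegral_of_subsingleton U.hom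
  haveI : IsLocallyNoetherian U.left := LocallyOfFiniteType.isLocallyNoetherian U.hom
  haveI : JacobsonSpace U.left := LocallyOfFiniteType.jacobsonSpace U.hom
  suffices H : ∀ a : 𝟙_ _ ⟶ U, ∃ O : U.left.Opens, img a ∈ O ∧ ∀ v : 𝟙_ _ ⟶ U, img v ∈ O → Linked U a v by
    obtain ⟨O, haO, hO⟩ := H a
    obtain ⟨O', haO', hO'⟩ := H a'
    obtain ⟨x, hx, hxc⟩ := nonempty_inter_closedPoints (Z := ((O ⊓ O' : U.left.Opens) : Set U.left))
      (nonempty_preirreducible_inter O.2 O'.2 ⟨_, haO⟩ ⟨_, haO'⟩) (O ⊓ O').2.isLocallyClosed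
    obtain ⟨v, rfl⟩ := exists_point_at hxc
    exact .trans _ _ _ (hO v hx.1) (.symm _ _ (hO' v hx.2))
  intro a
  obtain ⟨T, hT, V, hV, hxV, hVT, hstd⟩ := Smooth.exists_isStandardSmooth U.hom (img a)
  obtain rfl : T = ⊤ := eq_top_iff.mpr fun q _ => (Subsingleton.elim (α := PrimeSpectrum K) q (U.hom (img a))) ▸ hVT hxV
  obtain ⟨n, g₀, hg₀, het⟩ := hstd.exists_etale_mvPolynomial
  let σ := (Scheme.ΓSpecIso (CommRingCat.of K)).symm.commRingCatIsoToRingEquiv
  let g₁ : MvPolynomial (Fin n) K →+* Γ(U.left, V) := g₀.comp (MvPolynomial.mapEquiv (Fin n) σ).toRingHom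
  have het₁ : g₁.Etale := RingHom.Etale.respectsIso.2 g₀ _ het
  haveI : Nonempty ↥(V : Scheme.{u}) := ⟨⟨img a, hxV⟩⟩
  let W : Over (Spec (CommRingCat.of K)) := Over.mk (V.ι ≫ U.hom)
  let iW : W ⟶ U := Over.homMk V.ι rfl
  haveI : QuasiCompact V.ι := inferInstance
  haveI : Smooth W.hom := inferInstanceAs (Smooth (V.ι ≫ U.hom))
  haveI : IsSeparated W.hom := inferInstanceAs (IsSeparated (V.ι ≫ U.hom))
  haveI : QuasiCompact W.hom := inferInstanceAs (QuasiCompact (V.ι ≫ U.hom))
  haveI : ConnectedSpace ↥(V : Scheme.{u}) := by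
    haveI : IsIntegral (V : Scheme.{u}) := isIntegral_of_isOpenImmersion V.ι
    infer_instance
  haveI : GeometricallyIntegral W.hom := geometricallyIntegral_of_connected (V.ι ≫ U.hom)
  let g : W.left ⟶ Spec (Aff K n) := hV.isoSpec.hom ≫ Spec.map (CommRingCat.ofHom g₁)
  haveI : Etale g := by
    haveI : Etale (Spec.map (CommRingCat.ofHom g₁)) := (HasRingHomProperty.Spec_iff (P := @Etale)).2 het₁
    exact MorphismProperty.comp_mem _ _ _ (inferInstance : Etale hV.isoSpec.hom) this
  have hg : g ≫ Spec.map (CommRingCat.ofHom MvPolynomial.C) = W.hom := by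
    show (hV.isoSpec.hom ≫ Spec.map _) ≫ Spec.map _ = V.ι ≫ U.hom
    rw [← hV.isoSpec_hom_fromSpec, Category.assoc, Category.assoc]
    congr 1
    rw [← IsAffineOpen.SpecMap_appLE_fromSpec U.hom (isAffineOpen_top _) hV hVT, IsAffineOpen.fromSpec_top,
      ← Spec.map_comp, Scheme.isoSpec_Spec_inv, ← Spec.map_comp]
    congr 1
    ext c
    show g₀ (MvPolynomial.map σ.toRingHom (MvPolynomial.C c)) = (U.hom.appLE ⊤ V hVT).hom (σ c)
    rw [MvPolynomial.map_C, ← hg₀]
    rfl
  refine ⟨V, hxV, fun v hv => ?_⟩
  haveI : IsOpenImmersion iW.left := inferInstanceAs (IsOpenImmersion V.ι)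
  obtain ⟨c₁, hc₁⟩ := exists_lift iW a (by show img a ∈ Set.range V.ι; rw [V.range_ι]; exact hxV)
  obtain ⟨c₂, hc₂⟩ := exists_lift iW v (by show img v ∈ Set.range V.ι; rw [V.range_ι]; exact hv)
  have := (linked_of_etale n W g hg c₁ c₂).map iW
  rwa [hc₁, hc₂] at this

/-- The alternating relation for smooth varieties. -/
theorem square {U V W : Over (Spec (CommRingCat.of K))} [Smooth U.hom] [IsSeparated U.hom] [QuasiCompact U.hom]
    [GeometricallyIntegral U.hom] [Smooth V.hom] [IsSeparated V.hom] [QuasiCompact V.hom] [GeometricallyIntegral V.hom]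
    [Smooth W.hom] [GeometricallyIntegral W.hom] {c : PicA ((U ⊗ V) ⊗ W).left} (hc : c ∈ Inv _)
    (a a' : 𝟙_ _ ⟶ U) (b b' : 𝟙_ _ ⟶ V) :
    E c a b + E c a' b' = E c a b' + E c a' b :=
  square_linked hc (linked U a a') (linked V b b')

end SquareLib
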