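import Groth.Agent.SquareLib.TrivGen
import Groth.Agent.SquareLib.BCSpan
import Groth.Agent.SquareLib.Completion
import Groth.Agent.SquareLib.Link
import Mathlib.FieldTheory.IsAlgClosed.AlgebraicClosure

/-!
The alternating relation on products of three varieties, none of which is complete.
-/

set_option autoImplicit false
set_option linter.style.haveILetI false
set_option maxHeartbeats 2000000

noncomputable section

universe u

open CategoryTheory CategoryTheory.Limits MonoidalCategory CartesianMonoidalCategory AlgebraicGeometry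
open CubeConsLib

namespace SquareLib

theorem flat_over_field {X : Scheme.{u}} {k : Type u} [Field k] {K : Type u} [Field K] (f : X ⟶ Spec (CommRingCat.of k))
    (β : Spec (CommRingCat.of K) ⟶ Spec (CommRingCat.of k)) : Flat β := by
  rw [← Spec.map_preimage β, HasRingHomProperty.Spec_iff (P := @Flat)]
  letI := (Spec.preimage β).hom.toAlgebra
  exact (RingHom.flat_algebraMap_iff (R := k) (S := K)).2 inferInstance

theorem isLocallyNoetherian_of_lft {k : Type u} [Field k] (X : Over (Spec (CommRingCat.of k))) [LocallyOfFiniteType X.hom] :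
    IsLocallyNoetherian X.left := LocallyOfFiniteType.isLocallyNoetherian X.hom

section

variable {k : Type u} [Field k] [IsAlgClosed k] {U V W : Over (Spec (CommRingCat.of k))}
  [Smooth U.hom] [IsSeparated U.hom] [QuasiCompact U.hom] [GeometricallyIntegral U.hom]
  [Smooth V.hom] [IsSeparated V.hom] [QuasiCompact V.hom] [GeometricallyIntegral V.hom]
  [Smooth W.hom] [IsSeparated W.hom] [QuasiCompact W.hom] [GeometricallyIntegral W.hom]

/-- The map forgetting the first factor. -/
def rX (x : 𝟙_ _ ⟶ U) : (U ⊗ V) ⊗ W ⟶ (U ⊗ V) ⊗ W :=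
  lift (lift (toUnit _ ≫ x) (fst _ _ ≫ snd _ _)) (snd _ _)

/-- The map forgetting the second factor. -/
def rY (y : 𝟙_ _ ⟶ V) : (U ⊗ V) ⊗ W ⟶ (U ⊗ V) ⊗ W :=
  lift (lift (fst _ _ ≫ fst _ _) (toUnit _ ≫ y)) (snd _ _)

/-- The class with two restrictions removed. -/
def dXY (c : PicA ((U ⊗ V) ⊗ W).left) (x : 𝟙_ _ ⟶ U) (y : 𝟙_ _ ⟶ V) : PicA ((U ⊗ V) ⊗ W).left :=
  c - pb (rX x) c - pb (rY y) c + pb (rX x ≫ rY y) c

/-- The doubly reduced class restricts trivially to the generic fibre over the first two factors. -/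
theorem dXY_generic (hW : Function.Surjective W.hom.appTop) {c : PicA ((U ⊗ V) ⊗ W).left} (hc : c ∈ Inv _)
    (x : 𝟙_ _ ⟶ U) (y : 𝟙_ _ ⟶ V) [IsIntegral (U ⊗ V).left] :
    pullA ((fst (U ⊗ V) W).left.fiberι (genericPoint (U ⊗ V).left)) (dXY c x y) = 0 := by
  let φ : ((U ⊗ V) ⊗ W).left ⟶ (U ⊗ V).left := (fst (U ⊗ V) W).left
  let η := genericPoint (U ⊗ V).left
  let F := (U ⊗ V).left.residueField η
  let K := AlgebraicClosure F
  let θ : Spec (CommRingCat.of K) ⟶ Spec F := Spec.map (CommRingCat.ofHom (algebraMap F K))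
  let ηT : Spec (CommRingCat.of K) ⟶ (U ⊗ V).left := θ ≫ (U ⊗ V).left.fromSpecResidueField η
  let β : Spec (CommRingCat.of K) ⟶ Spec (CommRingCat.of k) := ηT ≫ (U ⊗ V).hom
  let U' : Over (Spec (CommRingCat.of K)) := Over.mk (pullback.snd U.hom β)
  let V' : Over (Spec (CommRingCat.of K)) := Over.mk (pullback.snd V.hom β)
  let W' : Over (Spec (CommRingCat.of K)) := Over.mk (pullback.snd W.hom β)
  haveI : Smooth U'.hom := inferInstanceAs (Smooth (pullback.snd U.hom β))
  haveI : IsSeparated U'.hom := inferInstanceAs (IsSeparated (pullback.snd U.hom β))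
  haveI : QuasiCompact U'.hom := inferInstanceAs (QuasiCompact (pullback.snd U.hom β))
  haveI : GeometricallyIntegral U'.hom := inferInstanceAs (GeometricallyIntegral (pullback.snd U.hom β))
  haveI : Smooth V'.hom := inferInstanceAs (Smooth (pullback.snd V.hom β))
  haveI : IsSeparated V'.hom := inferInstanceAs (IsSeparated (pullback.snd V.hom β))
  haveI : QuasiCompact V'.hom := inferInstanceAs (QuasiCompact (pullback.snd V.hom β))
  haveI : GeometricallyIntegral V'.hom := inferInstanceAs (GeometricallyIntegral (pullback.snd V.hom β))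
  haveI : Smooth W'.hom := inferInstanceAs (Smooth (pullback.snd W.hom β))
  haveI : GeometricallyIntegral W'.hom := inferInstanceAs (GeometricallyIntegral (pullback.snd W.hom β))
  let Φ := Over.map β
  let εU : Φ.obj U' ⟶ U := Over.homMk (pullback.fst U.hom β) pullback.condition
  let εV : Φ.obj V' ⟶ V := Over.homMk (pullback.fst V.hom β) pullback.condition
  let εW : Φ.obj W' ⟶ W := Over.homMk (pullback.fst W.hom β) pullback.condition
  let G : Φ.obj ((U' ⊗ V') ⊗ W') ⟶ (U ⊗ V) ⊗ W :=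
    lift (lift (Φ.map (fst _ _ ≫ fst _ _) ≫ εU) (Φ.map (fst _ _ ≫ snd _ _) ≫ εV)) (Φ.map (snd _ _) ≫ εW)
  let pη : Φ.obj (𝟙_ _) ⟶ (U ⊗ V) := Over.homMk ηT (Category.id_comp _).symm
  let a : 𝟙_ _ ⟶ U' := Over.homMk (pullback.lift (pη ≫ fst U V).left (𝟙 _)
    ((Over.w (pη ≫ fst U V)).trans (by rfl))) (pullback.lift_snd _ _ _)
  let b : 𝟙_ _ ⟶ V' := Over.homMk (pullback.lift (pη ≫ snd U V).left (𝟙 _)
    ((Over.w (pη ≫ snd U V)).trans (by rfl))) (pullback.lift_snd _ _ _)
  let ek : Φ.obj (𝟙_ _) ⟶ 𝟙_ _ := toUnit _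
  let a' : 𝟙_ _ ⟶ U' := Over.homMk (pullback.lift (ek ≫ x).left (𝟙 _)
    ((Over.w (ek ≫ x)).trans (by rfl))) (pullback.lift_snd _ _ _)
  let b' : 𝟙_ _ ⟶ V' := Over.homMk (pullback.lift (ek ≫ y).left (𝟙 _)
    ((Over.w (ek ≫ y)).trans (by rfl))) (pullback.lift_snd _ _ _)
  have ha : Φ.map a ≫ εU = pη ≫ fst U V := by ext; exact pullback.lift_fst _ _ _
  have hb : Φ.map b ≫ εV = pη ≫ snd U V := by ext; exact pullback.lift_fst _ _ _
  have ha' : Φ.map a' ≫ εU = ek ≫ x := by ext; exact pullback.lift_fst _ _ _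
  have hb' : Φ.map b' ≫ εV = ek ≫ y := by ext; exact pullback.lift_fst _ _ _
  have hi : ∀ (p : 𝟙_ _ ⟶ U') (q : 𝟙_ _ ⟶ V'),
      Φ.map (lift (lift (toUnit W' ≫ p) (toUnit W' ≫ q)) (𝟙 W')) ≫ G =
        lift (lift (Φ.map (toUnit W') ≫ Φ.map p ≫ εU) (Φ.map (toUnit W') ≫ Φ.map q ≫ εV)) εW := by
    intro p q
    ext1
    · ext1
      · simp only [G, Category.assoc, lift_fst, lift_fst_assoc, ← Functor.map_comp_assoc]
      · simp only [G, Category.assoc, lift_fst_assoc, lift_snd, lift_snd_assoc, ← Functor.map_comp_assoc, lift_fst]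
    · simp only [G, Category.assoc, lift_snd, ← Functor.map_comp_assoc, CategoryTheory.Functor.map_id, Category.id_comp]
  let g0 : Φ.obj W' ⟶ (U ⊗ V) ⊗ W := lift (Φ.map (toUnit W') ≫ pη) εW
  let cK : PicA ((U' ⊗ V') ⊗ W').left := pullA G.left c
  have hcK : cK ∈ Inv _ := pullA_mem _ hc
  have hE : ∀ (p : 𝟙_ _ ⟶ U') (q : 𝟙_ _ ⟶ V') (g : Φ.obj W' ⟶ (U ⊗ V) ⊗ W),
      Φ.map (lift (lift (toUnit W' ≫ p) (toUnit W' ≫ q)) (𝟙 W')) ≫ G = g → E cK p q = pullA g.left c := by
    rintro p q g rfl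
    show pullA _ (pullA _ c) = _
    rw [pullA_comp]
    rfl
  have e1 := hE a b g0 (by
    rw [hi, ha, hb]
    ext1
    · ext1 <;> simp [g0]
    · simp [g0])
  have e2 := hE a' b' (g0 ≫ rX x ≫ rY y) (by
    rw [hi, ha', hb']
    ext1
    · ext1 <;> simp [g0, rX, rY, ek]
    · simp [g0, rX, rY])
  have e3 := hE a b' (g0 ≫ rY y) (by
    rw [hi, ha, hb']
    ext1
    · ext1 <;> simp [g0, rY, ek]
    · simp [g0, rY])
  have e4 := hE a' b (g0 ≫ rX x) (by
    rw [hi, ha', hb]
    ext1
    · ext1 <;> simp [g0, rX, ek]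
    · simp [g0, rX])
  have hsq := square hcK a a' b b'
  rw [e1, e2, e3, e4] at hsq
  have hd : pullA g0.left (dXY c x y) = 0 := by
    simp only [dXY, pb, map_add, map_sub, pullA_comp]
    simp only [← Over.comp_left]
    rw [← sub_eq_zero.2 hsq]
    abel
  -- descend to the generic fibre
  have hπ : (φ ≫ (U ⊗ V).hom : ((U ⊗ V) ⊗ W).left ⟶ _) = ((U ⊗ V) ⊗ W).hom := Over.w (fst (U ⊗ V) W)
  have H0 : IsPullback (snd (U ⊗ V) W).left φ W.hom (U ⊗ V).hom := (IsPullback.of_hasPullback (U ⊗ V).hom W.hom).flip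
  let q : W'.left ⟶ φ.fiber η := pullback.lift g0.left (W'.hom ≫ θ) (by
    have := congrArg Over.Hom.left (show g0 ≫ fst (U ⊗ V) W = Φ.map (toUnit W') ≫ pη by simp [g0])
    rw [Over.comp_left] at this
    exact this.trans (Category.assoc W'.hom θ _).symm)
  have hq : q ≫ φ.fiberι η = g0.left := pullback.lift_fst _ _ _
  have hright : IsPullback (φ.fiberι η ≫ (snd (U ⊗ V) W).left) (φ.fiberToSpecResidueField η) W.hom
      ((U ⊗ V).left.fromSpecResidueField η ≫ (U ⊗ V).hom) :=
    (IsPullback.of_hasPullback φ ((U ⊗ V).left.fromSpecResidueField η)).paste_horiz H0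
  have hleft : IsPullback q W'.hom (φ.fiberToSpecResidueField η) θ := by
    refine IsPullback.of_right ?_ (pullback.lift_snd _ _ _) hright
    rw [reassoc_of% hq, ← Category.assoc θ]
    have := congrArg Over.Hom.left (show g0 ≫ snd (U ⊗ V) W = εW by simp [g0])
    rw [Over.comp_left] at this
    rw [this]
    exact IsPullback.of_hasPullback W.hom β
  haveI : Flat β := flat_over_field W.hom β
  haveI : Flat θ := by
    rw [HasRingHomProperty.Spec_iff (P := @Flat)]
    exact (RingHom.flat_algebraMap_iff (R := F) (S := K)).2 inferInstance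
  haveI : Surjective θ := ⟨fun z => ⟨Classical.arbitrary _, Subsingleton.elim (α := PrimeSpectrum F) _ _⟩⟩
  haveI : QuasiCompact φ := inferInstanceAs (QuasiCompact (pullback.fst (U ⊗ V).hom W.hom))
  haveI : IsSeparated φ := inferInstanceAs (IsSeparated (pullback.fst (U ⊗ V).hom W.hom))
  haveI : QuasiCompact (φ.fiberToSpecResidueField η) := inferInstanceAs (QuasiCompact (pullback.snd φ _))
  haveI : QuasiSeparated (φ.fiberToSpecResidueField η) := inferInstanceAs (QuasiSeparated (pullback.snd φ _))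
  haveI : IsIntegral W'.left := GeometricallyIntegral.isIntegral_of_subsingleton W'.hom
  have hR : ∀ t : Γ(W'.left, ⊤), t = 0 ∨ IsUnit t := by
    intro t
    obtain ⟨s, rfl⟩ := exists_eq_appTop (IsPullback.of_hasPullback W.hom β) hW t
    obtain ⟨s', rfl⟩ : ∃ s' : K, (Scheme.ΓSpecIso (CommRingCat.of K)).inv s' = s :=
      ⟨(Scheme.ΓSpecIso (CommRingCat.of K)).hom s, by rw [← ConcreteCategory.comp_apply, Iso.hom_inv_id]; rfl⟩
    rcases eq_or_ne s' 0 with rfl | h
    · exact Or.inl (by rw [map_zero, map_zero])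
    · exact Or.inr (((isUnit_iff_ne_zero.2 h).map (Scheme.ΓSpecIso (CommRingCat.of K)).inv.hom).map W'.hom.appTop.hom)
  have hinv : pullA (φ.fiberι η) (dXY c x y) ∈ Inv _ := pullA_mem _
    (add_mem (sub_mem (sub_mem hc (pb_mem _ hc)) (pb_mem _ hc)) (pb_mem _ hc))
  obtain ⟨M, hM, hMd⟩ := hinv
  rw [← hMd, ← clA_one, clA_eq_iff]
  refine trivial_of_baseChange hleft hR hM ?_
  have h0 : pullA q (clA hM) = 0 := by rw [hMd, pullA_comp, hq, hd]
  rw [pullA_clA, ← clA_one, clA_eq_iff] at h0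
  exact h0

theorem isNormal_of_smooth (T : Over (Spec (CommRingCat.of k))) [Smooth T.hom] : Pi1.IsNormalScheme T.left := fun t => by
  letI : T.left.Over (Spec (CommRingCat.of k)) := ⟨T.hom⟩
  haveI : Smooth (T.left ↘ Spec (CommRingCat.of k)) := inferInstanceAs (Smooth T.hom)
  haveI := CurveVBLib.regular_stalk (k := k) t
  haveI := CommAlgDim.isDomain_of_isRegularLocalRing (T.left.presheaf.stalk t)
  exact ⟨inferInstance, NormalLib.isIntegrallyClosed_of_isRegularLocalRing (T.left.presheaf.stalk t)⟩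

/-- The doubly reduced class comes from the first two factors, for a factor with constant functions only. -/
theorem dXY_eq (hW : Function.Surjective W.hom.appTop) {c : PicA ((U ⊗ V) ⊗ W).left} (hc : c ∈ Inv _)
    (x : 𝟙_ _ ⟶ U) (y : 𝟙_ _ ⟶ V) (z : 𝟙_ _ ⟶ W) :
    pb (lift (fst _ _) (toUnit _ ≫ z)) (dXY c x y) = dXY c x y := by
  haveI hTs : Smooth (U ⊗ V).hom := inferInstanceAs (Smooth (pullback.fst U.hom V.hom ≫ U.hom))
  haveI : IsLocallyNoetherian U.left := isLocallyNoetherian_of_lft U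
  haveI : IsLocallyNoetherian (U ⊗ V).left := isLocallyNoetherian_of_lft (U ⊗ V)
  haveI : IsIntegral U.left := GeometricallyIntegral.isIntegral_of_subsingleton U.hom
  haveI : UniversallyOpen V.hom := inferInstance
  haveI : IsIntegral (U ⊗ V).left := inferInstanceAs (IsIntegral (pullback U.hom V.hom))
  haveI : Smooth ((U ⊗ V) ⊗ W).hom := inferInstanceAs (Smooth (pullback.fst (U ⊗ V).hom W.hom ≫ (U ⊗ V).hom))
  haveI : IsLocallyNoetherian ((U ⊗ V) ⊗ W).left := isLocallyNoetherian_of_lft ((U ⊗ V) ⊗ W)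
  let φ := (fst (U ⊗ V) W).left
  haveI : GeometricallyIntegral φ := inferInstanceAs (GeometricallyIntegral (pullback.fst (U ⊗ V).hom W.hom))
  haveI : Flat φ := inferInstanceAs (Flat (pullback.fst (U ⊗ V).hom W.hom))
  haveI : QuasiCompact φ := inferInstanceAs (QuasiCompact (pullback.fst (U ⊗ V).hom W.hom))
  haveI : IsIntegral ((U ⊗ V) ⊗ W).left := Groth.Agent.S8886.result φ inferInstance
  have hd : dXY c x y ∈ Inv _ := add_mem (sub_mem (sub_mem hc (pb_mem _ hc)) (pb_mem _ hc)) (pb_mem _ hc)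
  have hgen := dXY_generic hW hc x y
  obtain ⟨M, hM, hMd⟩ := hd
  rw [← hMd, pullA_clA, ← clA_one, clA_eq_iff] at hgen
  obtain ⟨N, hN, hMN⟩ := invertible_eq_pullback φ (isNormal_of_smooth (U ⊗ V)) (fun _ => inferInstance)
    (Or.inl inferInstance) M hM hgen
  have hdN : dXY c x y = pb (fst (U ⊗ V) W) (clA hN) := by
    rw [← hMd, pb, pullA_clA, clA_eq_iff]
    exact hMN
  rw [hdN, pb_comp, lift_fst]

end

section

variable {k : Type u} [Field k] {U V W : Over (Spec (CommRingCat.of k))}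

/-- The eightfold alternating sum of classes pulled back from fewer factors vanishes. -/
theorem alternating {Q : Over (Spec (CommRingCat.of k))} {c : PicA ((U ⊗ V) ⊗ W).left} (x : 𝟙_ _ ⟶ U) (y : 𝟙_ _ ⟶ V)
    (z : 𝟙_ _ ⟶ W) (h : pb (lift (fst _ _) (toUnit _ ≫ z)) (dXY c x y) = dXY c x y) (u u' : Q ⟶ U) (v v' : Q ⟶ V)
    (w w' : Q ⟶ W) :
    pb (lift (lift u v) w) c + pb (lift (lift u v') w') c + (pb (lift (lift u' v) w') c + pb (lift (lift u' v') w) c) =
      pb (lift (lift u v) w') c + pb (lift (lift u v') w) c + (pb (lift (lift u' v) w) c + pb (lift (lift u' v') w') c) := by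
  let X : (Q ⟶ U) → (Q ⟶ V) → (Q ⟶ W) → PicA Q.left := fun u v w => pb (lift (lift u v) w) c
  have key : ∀ u v w, X u v w = X (toUnit Q ≫ x) v w + X u (toUnit Q ≫ y) w + X u v (toUnit Q ≫ z) -
      X (toUnit Q ≫ x) (toUnit Q ≫ y) w - X (toUnit Q ≫ x) v (toUnit Q ≫ z) - X u (toUnit Q ≫ y) (toUnit Q ≫ z) +
      X (toUnit Q ≫ x) (toUnit Q ≫ y) (toUnit Q ≫ z) := by
    intro u v w
    have h1 := congrArg (pb (lift (lift u v) w)) h
    simp only [dXY, map_add, map_sub, pb_comp] at h1
    have a1 : lift (lift u v) w ≫ lift (fst (U ⊗ V) W) (toUnit _ ≫ z) = lift (lift u v) (toUnit Q ≫ z) := by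
      ext <;> simp
    have a2 : ∀ (u : Q ⟶ U) (v : Q ⟶ V) (w : Q ⟶ W),
        lift (lift u v) w ≫ rX x = lift (lift (toUnit Q ≫ x) v) w := fun u v w => by ext <;> simp [rX]
    have a3 : ∀ (u : Q ⟶ U) (v : Q ⟶ V) (w : Q ⟶ W),
        lift (lift u v) w ≫ rY y = lift (lift u (toUnit Q ≫ y)) w := fun u v w => by ext <;> simp [rY]
    simp only [reassoc_of% a1, a1, reassoc_of% a2, a2, a3] at h1
    show pb (lift (lift u v) w) c = _
    linear_combination (norm := abel) -h1
  show X u v w + X u v' w' + (X u' v w' + X u' v' w) = X u v w' + X u v' w + (X u' v w + X u' v' w')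
  rw [key u v w, key u v' w', key u' v w', key u' v' w, key u v w', key u v' w, key u' v w, key u' v' w']
  abel

end

/-- The alternating relation, for classes. -/
theorem cube_classes {k : Type u} [Field k] [IsAlgClosed k] {U V W Q : Over (Spec (CommRingCat.of k))}
    [Smooth U.hom] [IsSeparated U.hom] [QuasiCompact U.hom] [GeometricallyIntegral U.hom]
    [Smooth V.hom] [IsSeparated V.hom] [QuasiCompact V.hom] [GeometricallyIntegral V.hom]
    [Smooth W.hom] [IsSeparated W.hom] [QuasiCompact W.hom] [GeometricallyIntegral W.hom]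
    {c : PicA ((U ⊗ V) ⊗ W).left} (hc : c ∈ Inv _) (u u' : Q ⟶ U) (v v' : Q ⟶ V) (w w' : Q ⟶ W) :
    pb (lift (lift u v) w) c + pb (lift (lift u v') w') c + (pb (lift (lift u' v) w') c + pb (lift (lift u' v') w) c) =
      pb (lift (lift u v) w') c + pb (lift (lift u v') w) c + (pb (lift (lift u' v) w) c + pb (lift (lift u' v') w') c) := by
  haveI : IsIntegral U.left := GeometricallyIntegral.isIntegral_of_subsingleton U.hom
  haveI : IsIntegral V.left := GeometricallyIntegral.isIntegral_of_subsingleton V.hom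
  haveI : IsIntegral W.left := GeometricallyIntegral.isIntegral_of_subsingleton W.hom
  obtain ⟨x⟩ := exists_point U
  obtain ⟨y⟩ := exists_point V
  obtain ⟨z⟩ := exists_point W
  obtain ⟨Wb, sb, j, hj, hjs, hb1, hb2, hb3, hb4, hb5⟩ := exists_enlargement W.hom
  let W' : Over (Spec (CommRingCat.of k)) := Over.mk sb
  haveI : Smooth W'.hom := hb1
  haveI : IsSeparated W'.hom := hb2
  haveI : QuasiCompact W'.hom := hb3
  haveI : GeometricallyIntegral W'.hom := hb4
  let jW : W ⟶ W' := Over.homMk j hjs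
  let J : (U ⊗ V) ⊗ W ⟶ (U ⊗ V) ⊗ W' := (U ⊗ V) ◁ jW
  haveI : IsOpenImmersion J.left := by
    have hm := MorphismProperty.pullbackMap (P := @IsOpenImmersion) (f := (U ⊗ V).hom) (g := W.hom)
      (f' := (U ⊗ V).hom) (g' := W'.hom) (i₁ := 𝟙 _) (i₂ := j) inferInstance hj (Category.id_comp _).symm hjs.symm
    convert hm using 1
    · rfl
    · rfl
    · refine pullback.hom_ext (f := (U ⊗ V).hom) (g := W'.hom) ?_ ?_
      · rw [pullback.lift_fst]
        exact ((congrArg Over.Hom.left (show J ≫ fst _ _ = fst _ _ from whiskerLeft_fst _ _)).trans (Category.comp_id _).symm)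
      · rw [pullback.lift_snd]
        exact congrArg Over.Hom.left (show J ≫ snd _ _ = snd _ _ ≫ jW from whiskerLeft_snd _ _)
  haveI : Smooth ((U ⊗ V) ⊗ W').hom := by
    haveI : Smooth (U ⊗ V).hom := inferInstanceAs (Smooth (pullback.fst U.hom V.hom ≫ U.hom))
    exact inferInstanceAs (Smooth (pullback.fst (U ⊗ V).hom W'.hom ≫ (U ⊗ V).hom))
  obtain ⟨c', hc', hcc⟩ := exists_extension J (c := c) hc
  have h' := dXY_eq (W := W') hb5 hc' x y (z ≫ jW)
  have hJd : dXY c x y = pb J (dXY c' x y) := by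
    rw [← hcc]
    simp only [dXY, map_add, map_sub, pb_comp]
    have f1 : J ≫ fst _ _ = fst _ _ := whiskerLeft_fst _ _
    have f2 : J ≫ snd _ _ = snd _ _ ≫ jW := whiskerLeft_snd _ _
    have e1 : rX x ≫ J = J ≫ rX x := by ext <;> simp [rX, f1, f2, reassoc_of% f1]
    have e2 : rY y ≫ J = J ≫ rY y := by ext <;> simp [rY, f1, f2, reassoc_of% f1]
    simp only [Category.assoc, e2, reassoc_of% e1, e1]
  have h : pb (lift (fst _ _) (toUnit _ ≫ z)) (dXY c x y) = dXY c x y := by
    rw [hJd, pb_comp, show lift (fst (U ⊗ V) W) (toUnit _ ≫ z) ≫ J = J ≫ lift (fst (U ⊗ V) W') (toUnit _ ≫ z ≫ jW) by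
      ext <;> simp [show J ≫ fst _ _ = fst _ _ from whiskerLeft_fst _ _, show J ≫ snd _ _ = snd _ _ ≫ jW from whiskerLeft_snd _ _,
        reassoc_of% (show J ≫ fst _ _ = fst _ _ from whiskerLeft_fst _ _)], ← pb_comp, h']
  exact alternating x y z h u u' v v' w w'

/-- The alternating relation, as an isomorphism of modules. -/
theorem cube_noncomplete {k : Type u} [Field k] [IsAlgClosed k] {U V W Q : Over (Spec (CommRingCat.of k))}
    [Smooth U.hom] [IsSeparated U.hom] [QuasiCompact U.hom] [GeometricallyIntegral U.hom]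
    [Smooth V.hom] [IsSeparated V.hom] [QuasiCompact V.hom] [GeometricallyIntegral V.hom]
    [Smooth W.hom] [IsSeparated W.hom] [QuasiCompact W.hom] [GeometricallyIntegral W.hom]
    {L : (U ⊗ V ⊗ W).left.Modules} (hL : PicF.IsInvertible L) (u u' : Q ⟶ U) (v v' : Q ⟶ V) (w w' : Q ⟶ W) :
    Nonempty ((CohB1.tensorMod
        (CohB1.tensorMod ((Scheme.Modules.pullback (lift u (lift v w)).left).obj L)
          ((Scheme.Modules.pullback (lift u (lift v' w')).left).obj L))
        (CohB1.tensorMod ((Scheme.Modules.pullback (lift u' (lift v w')).left).obj L)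
          ((Scheme.Modules.pullback (lift u' (lift v' w)).left).obj L)) : Q.left.Modules) ≅
      CohB1.tensorMod
        (CohB1.tensorMod ((Scheme.Modules.pullback (lift u (lift v w')).left).obj L)
          ((Scheme.Modules.pullback (lift u (lift v' w)).left).obj L))
        (CohB1.tensorMod ((Scheme.Modules.pullback (lift u' (lift v w)).left).obj L)
          ((Scheme.Modules.pullback (lift u' (lift v' w')).left).obj L))) := by
  have e := cube_classes (pb_mem (α_ U V W).hom (clA_mem hL)) u u' v v' w w'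
  have hP : ∀ (u : Q ⟶ U) (v : Q ⟶ V) (w : Q ⟶ W),
      pb (lift (lift u v) w) (pb (α_ U V W).hom (clA hL)) =
        clA (AmpleDevLib.isInvertible_pb (lift u (lift v w)).left hL) := fun u v w => by
    rw [pb_comp, show lift (lift u v) w ≫ (α_ U V W).hom = lift u (lift v w) by ext <;> simp]
    exact pullA_clA _ hL
  simp only [hP, ← clA_tensor, clA_eq_iff] at e
  exact e

end SquareLib

end
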