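import Groth.Agent.S1625
import Groth.Agent.S5950
import Groth.Agent.S1585
import Groth.Agent.S1561
import Groth.Agent.S2500
import Groth.Agent.CurveVBLib.Integral
import Groth.Agent.MiscFlat6.NormalLowDim
import Groth.Agent.DepthLib.GeomRk
import Groth.Agent.FibDimLib.Pure
import Groth.Agent.AbSchLib.Flat
import Groth.Agent.NormalLib.Regular

/-!
Smooth curves over an algebraically closed field and their smooth completions.
-/

set_option autoImplicit false
set_option linter.style.haveILetI false
set_option maxHeartbeats 1000000

noncomputable section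

universe u

open CategoryTheory CategoryTheory.Limits AlgebraicGeometry TopologicalSpace
open FibDimLib

namespace SquareLib

/-- The dimension is bounded by the dimensions of the local rings. -/
theorem topologicalKrullDim_le_of_stalks {X : Scheme.{u}} {c : WithBot ℕ∞}
    (h : ∀ x : X, ringKrullDim (X.presheaf.stalk x) ≤ c) : topologicalKrullDim X ≤ c := by
  refine le_of_forall_nat_le fun n hn ↦ ?_
  obtain ⟨q, hq, hqs⟩ := exists_specChain hn
  let x := q (Fin.last n)
  have hr : ∀ i, q i ∈ Set.range (X.fromSpecStalk x) := fun i => by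
    rw [Scheme.range_fromSpecStalk]
    exact hqs i _ (Fin.le_last i)
  choose p hp using hr
  refine le_trans ?_ (h x)
  rw [← PrimeSpectrum.topologicalKrullDim_eq_ringKrullDim]
  refine IsSpecChain.le_topologicalKrullDim (A := ↥(Spec (X.presheaf.stalk x))) (c := p) ⟨fun i j e => hq ?_, fun i j hij => ?_⟩
  · rw [← hp i, ← hp j, e]
  · rw [← (X.fromSpecStalk x).isEmbedding.isInducing.specializes_iff, hp i, hp j]
    exact hqs i j hij

variable {k : Type u} [Field k] [IsAlgClosed k]

/-- A connected scheme, smooth of finite type over an algebraically closed field, is a variety. -/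
theorem geometricallyIntegral_of_connected {X : Scheme.{u}} (s : X ⟶ Spec (CommRingCat.of k)) [Smooth s] [QuasiCompact s]
    [ConnectedSpace X] : GeometricallyIntegral s := by
  letI : X.Over (Spec (CommRingCat.of k)) := ⟨s⟩
  haveI : Smooth (X ↘ Spec (CommRingCat.of k)) := inferInstanceAs (Smooth s)
  haveI : IsLocallyNoetherian X := LocallyOfFiniteType.isLocallyNoetherian s
  haveI : CompactSpace X := QuasiCompact.compactSpace_of_compactSpace s
  haveI : IsNoetherian X := ⟨⟩
  haveI : ∀ x : X, IsDomain (X.presheaf.stalk x) := fun x =>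
    haveI := CurveVBLib.regular_stalk (k := k) x
    CommAlgDim.isDomain_of_isRegularLocalRing _
  haveI : IsIntegral X := CurveVBLib.isIntegral_of_connected
  haveI := AbSchLib.geometricallyReduced_of_smooth s
  haveI := Groth.Agent.S2500.result s
  exact GeometricallyIntegral.of_geometricallyReduced_of_geometricallyIrreducible s

/-- A smooth curve has a smooth completion. -/
theorem exists_completion {X : Scheme.{u}} (s : X ⟶ Spec (CommRingCat.of k)) [Smooth s] [IsSeparated s] [QuasiCompact s]
    [IsIntegral X] (hdim : topologicalKrullDim X ≤ 1) :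
    ∃ (Xb : Scheme.{u}) (sb : Xb ⟶ Spec (CommRingCat.of k)) (j : X ⟶ Xb), IsOpenImmersion j ∧ j ≫ sb = s ∧
      IsProper sb ∧ Smooth sb ∧ GeometricallyIntegral sb := by
  letI : X.Over (Spec (CommRingCat.of k)) := ⟨s⟩
  haveI : IsSeparated (X ↘ Spec (CommRingCat.of k)) := inferInstanceAs (IsSeparated s)
  haveI : LocallyOfFiniteType (X ↘ Spec (CommRingCat.of k)) := inferInstanceAs (LocallyOfFiniteType s)
  haveI : QuasiCompact (X ↘ Spec (CommRingCat.of k)) := inferInstanceAs (QuasiCompact s)
  haveI : Smooth (X ↘ Spec (CommRingCat.of k)) := inferInstanceAs (Smooth s)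
  obtain ⟨d, Y, c, j, hc, hj, hjc, hdense, hdom, hfin, hclosed⟩ := Groth.Agent.S1625.result k X hdim
  haveI := hc; haveI := hj; haveI := hdom
  let t : Y ⟶ Spec (CommRingCat.of k) := c ≫ CohB1.ProjSpace.toSpec d k
  haveI : IsProper (CohB1.ProjSpace.toSpec d k) := ProjDegLib.toSpec_isProper k d
  haveI : IsProper t := inferInstance
  letI : Y.Over (Spec (CommRingCat.of k)) := ⟨t⟩
  haveI : LocallyOfFiniteType (Y ↘ Spec (CommRingCat.of k)) := inferInstanceAs (LocallyOfFiniteType t)
  haveI : IsLocallyNoetherian Y := LocallyOfFiniteType.isLocallyNoetherian t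
  haveI : JacobsonSpace Y := LocallyOfFiniteType.jacobsonSpace t
  haveI : IsLocallyNoetherian X := LocallyOfFiniteType.isLocallyNoetherian s
  haveI : QuasiCompact j := inferInstance
  haveI : IsReduced Y := IsSchemeTheoreticallyDominant.isReduced j
  haveI : IrreducibleSpace Y := by
    have h := ((IrreducibleSpace.isIrreducible_univ X).image j.base j.continuous.continuousOn).closure
    rw [Set.image_univ, hdense.closure_eq] at h
    exact { isPreirreducible_univ := h.2, toNonempty := ⟨j (Classical.arbitrary _)⟩ }
  haveI : IsIntegral Y := isIntegral_of_irreducibleSpace_of_isReduced Y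
  haveI : QuasiCompact (Y.fromSpecStalk (genericPoint Y)) := inferInstance
  haveI : QuasiSeparated (Y.fromSpecStalk (genericPoint Y)) := inferInstance
  obtain ⟨hν, -, -, hint, hN⟩ := Groth.Agent.S1585.result k Y
  let ν := Curv2.normalizationι Y
  haveI := hν; haveI := hint
  -- normal over the range of `j`
  have hnorm : ∀ y ∈ j.opensRange, IsIntegrallyClosed (Y.presheaf.stalk y) := by
    rintro _ ⟨x, rfl⟩
    haveI := CurveVBLib.regular_stalk (k := k) x
    haveI := CommAlgDim.isDomain_of_isRegularLocalRing (X.presheaf.stalk x)
    haveI := NormalLib.isIntegrallyClosed_of_isRegularLocalRing (X.presheaf.stalk x)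
    exact IsIntegrallyClosed.of_equiv (asIso (j.stalkMap x)).commRingCatIsoToRingEquiv.symm
  haveI : Nonempty X := inferInstance
  haveI hiso : IsIso (ν ∣_ j.opensRange) :=
    Groth.Agent.S5950.isIso_normalizationι_restrict Y j.opensRange ⟨j (Classical.arbitrary _), _, rfl⟩ hnorm
  let jn : X ⟶ Curv2.normalization Y := j.isoOpensRange.hom ≫ inv (ν ∣_ j.opensRange) ≫ (ν ⁻¹ᵁ j.opensRange).ι
  have hjn : jn ≫ ν = j := by
    simp only [jn, Category.assoc]
    rw [← morphismRestrict_ι, IsIso.inv_hom_id_assoc, Scheme.Hom.isoOpensRange_hom_ι]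
  have hsmooth : Smooth (ν ≫ t) := by
    haveI : LocallyOfFinitePresentation (ν ≫ t) := LocallyOfFinitePresentation.iff_locallyOfFiniteType.2 inferInstance
    haveI : IsLocallyNoetherian (Curv2.normalization Y) := LocallyOfFiniteType.isLocallyNoetherian (ν ≫ t)
    have hY : topologicalKrullDim Y ≤ 1 := by
      refine le_of_forall_nat_le fun n hn ↦ ?_
      by_contra hn1
      have h2 : 2 ≤ n := by
        by_contra h
        exact hn1 (by exact_mod_cast (show n ≤ 1 by omega))
      obtain ⟨q, hq, hqs⟩ := exists_specChain (n := 2) (le_trans (by exact_mod_cast h2) hn)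
      have hne : ∀ i : Fin 3, i ≠ 2 → q i ∈ Set.range j.base := fun i hi => by
        by_contra h
        exact hi (hq (((hqs i 2 (Fin.le_last i)).mem_closed (hclosed _ h) (Set.mem_singleton _)).symm))
      obtain ⟨x₁, hx₁⟩ := hne 1 (by decide)
      obtain ⟨x₀, hx₀⟩ := hne 0 (by decide)
      have hcl : IsClosed ({x₁} : Set X) := by
        rw [← closure_subset_iff_isClosed]
        intro w hw
        by_contra hwne
        have h01 : x₀ ⤳ x₁ := by
          rw [← j.isOpenEmbedding.isInducing.specializes_iff]
          rw [hx₀, hx₁]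
          exact hqs 0 1 (by decide)
        have hsp : x₁ ⤳ w := specializes_iff_mem_closure.2 hw
        have hch : IsSpecChain (A := X) (n := 2) ![x₀, x₁, w] := by
          refine ⟨?_, ?_⟩
          · have n01 : x₀ ≠ x₁ := fun e => absurd (hq (hx₀.symm.trans ((congrArg j.base e).trans hx₁))) (by decide)
            have n12 : x₁ ≠ w := fun e => hwne e.symm
            have n02 : x₀ ≠ w := fun e => n01 (h01.antisymm (e ▸ hsp)).eq
            have n10 := n01.symm
            have n21 := n12.symm
            have n20 := n02.symm
            intro a b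
            fin_cases a <;> fin_cases b <;> simp_all [Matrix.cons_val_zero, Matrix.cons_val_one]
          · intro a b hab
            fin_cases a <;> fin_cases b <;>
              first
                | exact specializes_rfl
                | exact h01
                | exact hsp
                | exact h01.trans hsp
                | exact absurd hab (by decide)
        have := hch.le_topologicalKrullDim.trans hdim
        norm_cast at this
      have hcl' : IsClosed ({q 1} : Set Y) := by
        rw [← hx₁]
        refine isClosed_singleton_of_isLocallyClosed_singleton ?_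
        have := hcl.isLocallyClosed.image j.isOpenEmbedding.isInducing j.isOpenEmbedding.isOpen_range.isLocallyClosed
        rwa [Set.image_singleton] at this
      have h12 : q 2 ∈ ({q 1} : Set Y) := (hqs 1 2 (by decide)).mem_closed hcl' rfl
      exact absurd (hq h12) (by decide)
    have hsm : ∀ x, x ∈ (ν ≫ t).smoothLocus := fun x => by
      letI : (Curv2.normalization Y).Over (Spec (CommRingCat.of k)) := ⟨ν ≫ t⟩
      haveI : LocallyOfFinitePresentation (Curv2.normalization Y ↘ Spec (CommRingCat.of k)) :=
        inferInstanceAs (LocallyOfFinitePresentation (ν ≫ t))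
      refine ((Groth.Agent.S1561.result k (Curv2.normalization Y)).1 x).2 ?_
      haveI := (hN x).1
      haveI := (hN x).2
      exact MiscFlat6.isRegularLocalRing_of_normal_dim_le_one _
        ((DepthLib.ringKrullDim_stalk_le_of_integral ν x).trans ((MiscFlat6.ringKrullDim_stalk_le Y _).trans hY))
    exact Scheme.Hom.smoothLocus_eq_top_iff.mp (top_le_iff.mp fun x _ => hsm x)
  haveI := AbSchLib.geometricallyReduced_of_smooth (ν ≫ t)
  haveI := Groth.Agent.S2500.result (ν ≫ t)
  refine ⟨_, ν ≫ t, jn, inferInstance, ?_, inferInstance, hsmooth,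
    GeometricallyIntegral.of_geometricallyReduced_of_geometricallyIrreducible _⟩
  rw [reassoc_of% hjn]
  exact hjc

end SquareLib
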