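import Groth.Agent.NormalLib.Serre
import Mathlib.RingTheory.Flat.Basic
import Mathlib.LinearAlgebra.TensorProduct.Prod
import Mathlib.RingTheory.Ideal.AssociatedPrime.Finiteness

/-!
Functions which are invertible generically along a flat extension of a normal local ring with prime extensions.
-/

set_option autoImplicit false
set_option linter.style.haveILetI false

universe u v

set_option maxHeartbeats 1000000

open scoped TensorProduct
open IsLocalRing

namespace SquareLib

variable {A B : Type u} [CommRing A] [CommRing B] [Algebra A B]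

theorem mem_map_ker_of_tmul_eq_zero [Module.Flat A B] {M : Type v} [AddCommGroup M] [Module A M] (φ : A →ₗ[A] M) {g : B}
    (h : g ⊗ₜ[A] φ 1 = 0) : g ∈ Ideal.map (algebraMap A B) (LinearMap.ker φ : Ideal A) := by
  have hex : Function.Exact (LinearMap.ker φ).subtype φ := LinearMap.exact_subtype_ker_map φ
  have hex' := Module.Flat.lTensor_exact B hex
  obtain ⟨z, hz⟩ := (hex' (g ⊗ₜ[A] (1 : A))).1 (by rw [LinearMap.lTensor_tmul]; exact h)
  have key : ∀ z : B ⊗[A] LinearMap.ker φ,
      TensorProduct.rid A B ((LinearMap.ker φ).subtype.lTensor B z) ∈ Ideal.map (algebraMap A B) (LinearMap.ker φ : Ideal A) := by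
    intro z
    induction z using TensorProduct.induction_on with
    | zero => simp
    | tmul b x =>
      rw [LinearMap.lTensor_tmul, TensorProduct.rid_tmul, Algebra.smul_def]
      exact Ideal.mul_mem_right _ _ (Ideal.mem_map_of_mem _ x.2)
    | add x y hx hy =>
      rw [map_add, map_add]
      exact Ideal.add_mem _ hx hy
  have := key z
  rwa [hz, TensorProduct.rid_tmul, one_smul] at this

theorem tmul_eq_zero_of_mem_map {M : Type v} [AddCommGroup M] [Module A M] (φ : A →ₗ[A] M) {I : Ideal A}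
    (hI : I ≤ (LinearMap.ker φ : Ideal A)) {g : B} (h : g ∈ Ideal.map (algebraMap A B) I) : g ⊗ₜ[A] φ 1 = 0 := by
  induction h using Submodule.span_induction with
  | mem x hx =>
    obtain ⟨i, hi, rfl⟩ := hx
    rw [Algebra.algebraMap_eq_smul_one, TensorProduct.smul_tmul, ← map_smul, smul_eq_mul, mul_one,
      show φ i = 0 from hI hi, TensorProduct.tmul_zero]
  | zero => rw [TensorProduct.zero_tmul]
  | add x y _ _ hx hy => rw [TensorProduct.add_tmul, hx, hy, add_zero]
  | smul b x _ hx =>
    have := congrArg ((LinearMap.mulLeft A b).rTensor M) hx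
    rwa [LinearMap.rTensor_tmul, map_zero] at this

theorem map_inf_of_flat [Module.Flat A B] {I J : Ideal A} {g : B} (hI : g ∈ I.map (algebraMap A B))
    (hJ : g ∈ J.map (algebraMap A B)) : g ∈ (I ⊓ J).map (algebraMap A B) := by
  let φI : A →ₗ[A] A ⧸ I := Submodule.mkQ I
  let φJ : A →ₗ[A] A ⧸ J := Submodule.mkQ J
  have h1 := tmul_eq_zero_of_mem_map φI (Submodule.ker_mkQ I).ge hI
  have h2 := tmul_eq_zero_of_mem_map φJ (Submodule.ker_mkQ J).ge hJ
  have h : g ⊗ₜ[A] (φI.prod φJ) 1 = 0 := by
    show g ⊗ₜ[A] (φI 1, φJ 1) = 0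
    apply (TensorProduct.prodRight A A B (A ⧸ I) (A ⧸ J)).injective
    rw [TensorProduct.prodRight_tmul, h1, h2, map_zero]
    rfl
  have hker : (LinearMap.ker (φI.prod φJ) : Ideal A) = I ⊓ J := by
    rw [LinearMap.ker_prod, Submodule.ker_mkQ, Submodule.ker_mkQ]
  have := mem_map_ker_of_tmul_eq_zero _ h
  rwa [hker] at this

theorem map_finset_inf_of_flat [Module.Flat A B] {ι : Type*} (s : Finset ι) (I : ι → Ideal A) {g : B}
    (h : ∀ i ∈ s, g ∈ (I i).map (algebraMap A B)) : g ∈ (s.inf I).map (algebraMap A B) := by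
  classical
  induction s using Finset.induction_on with
  | empty =>
    rw [Finset.inf_empty, Ideal.map_top]
    trivial
  | insert i s hi ih =>
    rw [Finset.inf_insert]
    exact map_inf_of_flat (h i (Finset.mem_insert_self _ _)) (ih fun j hj => h j (Finset.mem_insert_of_mem hj))

section

variable [IsDomain A] [IsDomain B]

/-- The elements divisible by `x` after inverting an element outside `P`. -/
def divBy (P : Ideal A) [hP : P.IsPrime] (x : A) : Ideal A where
  carrier := {a | ∃ σ ∉ P, x ∣ σ * a}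
  zero_mem' := ⟨1, P.one_notMem, by rw [mul_zero]; exact dvd_zero x⟩
  add_mem' := by
    rintro a b ⟨σ, hσ, ha⟩ ⟨τ, hτ, hb⟩
    refine ⟨σ * τ, fun h => (Ideal.IsPrime.mem_or_mem ‹_› h).elim hσ hτ, ?_⟩
    rw [mul_add]
    refine dvd_add ?_ ?_
    · rw [mul_comm σ, mul_assoc]
      exact Dvd.dvd.mul_left ha τ
    · rw [mul_assoc]
      exact Dvd.dvd.mul_left hb σ
  smul_mem' := by
    rintro r a ⟨σ, hσ, ha⟩
    refine ⟨σ, hσ, ?_⟩
    rw [smul_eq_mul, mul_left_comm]
    exact Dvd.dvd.mul_left ha r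

variable [IsNoetherianRing A] [Module.Flat A B]

theorem exists_uniform (P : Ideal A) [P.IsPrime] (x : A) :
    ∃ σ ∉ P, ∀ g ∈ (divBy P x).map (algebraMap A B), algebraMap A B x ∣ algebraMap A B σ * g := by
  classical
  obtain ⟨s, hs⟩ := IsNoetherian.noetherian (divBy P x)
  have hmem : ∀ a ∈ s, ∃ σ ∉ P, x ∣ σ * a := fun a ha =>
    show a ∈ divBy P x from hs.le (Submodule.subset_span ha)
  choose σ hσ hdvd using hmem
  refine ⟨∏ a ∈ s.attach, σ a.1 a.2, fun h => ?_, fun g hg => ?_⟩
  · obtain ⟨a, -, ha⟩ := Ideal.IsPrime.prod_mem_iff.1 h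
    exact hσ a.1 a.2 ha
  · rw [← hs, Ideal.map_span] at hg
    induction hg using Submodule.span_induction with
    | mem y hy =>
      obtain ⟨a, ha, rfl⟩ := hy
      rw [← map_mul]
      refine map_dvd _ ((hdvd a ha).trans ?_)
      exact mul_dvd_mul_right (Finset.dvd_prod_of_mem (fun b => σ b.1 b.2) (Finset.mem_attach s ⟨a, ha⟩)) a
    | zero => rw [mul_zero]; exact dvd_zero _
    | add y z _ _ hy hz => rw [mul_add]; exact dvd_add hy hz
    | smul b y _ hy =>
      rw [smul_eq_mul, mul_left_comm]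
      exact Dvd.dvd.mul_left hy b

theorem mem_map_divBy_of_mul {P : Ideal A} [P.IsPrime] {x σ : A} (hσ : σ ∉ P) {g : B}
    (h : algebraMap A B σ * g ∈ (divBy P x).map (algebraMap A B)) : g ∈ (divBy P x).map (algebraMap A B) := by
  let φ : A →ₗ[A] A ⧸ divBy P x := (Submodule.mkQ (divBy P x)) ∘ₗ LinearMap.mulLeft A σ
  have hker : (LinearMap.ker φ : Ideal A) ≤ divBy P x := fun a ha => by
    have ha' : σ * a ∈ divBy P x := (Submodule.Quotient.mk_eq_zero _).1 (LinearMap.mem_ker.1 ha)
    obtain ⟨τ, hτ, hd⟩ := ha'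
    exact ⟨τ * σ, fun h => (Ideal.IsPrime.mem_or_mem ‹_› h).elim hτ hσ, by rwa [mul_assoc]⟩
  refine Ideal.map_mono hker (mem_map_ker_of_tmul_eq_zero φ ?_)
  have := tmul_eq_zero_of_mem_map (Submodule.mkQ (divBy P x)) (Submodule.ker_mkQ _).ge h
  rw [← Algebra.smul_def, TensorProduct.smul_tmul, ← map_smul] at this
  simpa [φ] using this

variable {P : Ideal A} [P.IsPrime] (hQ : (P.map (algebraMap A B)).IsPrime) (hPQ : ∀ s : A, algebraMap A B s ∈ P.map (algebraMap A B) → s ∈ P)
  {t : A} (ht : t ∈ P) (ht0 : algebraMap A B t ≠ 0) (hgen : P ≤ divBy P t)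

include hQ hPQ ht ht0 hgen in
/-- An element dividing a power of the uniformiser is a power of it, up to elements outside `Q`. -/
theorem exists_order : ∀ (m : ℕ) (f c v : B), v ∉ P.map (algebraMap A B) → f * c = algebraMap A B t ^ m * v →
    ∃ (n : ℕ) (u s : B), u ∉ P.map (algebraMap A B) ∧ s ∉ P.map (algebraMap A B) ∧ s * f = algebraMap A B t ^ n * u := by
  obtain ⟨σ, hσ, huni⟩ := exists_uniform (B := B) P t
  have h1 : (1 : B) ∉ P.map (algebraMap A B) := (Ideal.ne_top_iff_one _).1 hQ.ne_top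
  intro m
  induction m with
  | zero =>
    intro f c v hv he
    refine ⟨0, f, 1, fun hf => hv ?_, h1, by simp⟩
    rw [pow_zero, one_mul] at he
    rw [← he]
    exact Ideal.mul_mem_right _ _ hf
  | succ m ih =>
    intro f c v hv he
    by_cases hf : f ∈ P.map (algebraMap A B)
    · obtain ⟨f1, hf1⟩ := huni f (Ideal.map_mono hgen hf)
      have hσQ : algebraMap A B σ ∉ P.map (algebraMap A B) := fun h => hσ (hPQ σ h)
      obtain ⟨n, u, s, hu, hs, he'⟩ := ih f1 c (algebraMap A B σ * v) (fun h => (hQ.mem_or_mem h).elim hσQ hv) (by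
        apply mul_left_cancel₀ ht0
        rw [← mul_assoc, ← hf1, mul_assoc, he]
        ring)
      refine ⟨n + 1, u, s * algebraMap A B σ, hu, fun h => (hQ.mem_or_mem h).elim hs hσQ, ?_⟩
      rw [mul_assoc, hf1, mul_left_comm, he']
      ring
    · exact ⟨0, f, 1, hf, h1, by simp⟩

include hQ hPQ ht ht0 hgen in
/-- Divisibility by a power of the uniformiser at `Q` is detected by the extended ideal. -/
theorem mem_map_divBy_iff : ∀ (n : ℕ) (g : B),
    g ∈ (divBy P (t ^ n)).map (algebraMap A B) ↔ ∃ s ∉ P.map (algebraMap A B), algebraMap A B t ^ n ∣ s * g := by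
  intro n
  have hσQ : ∀ σ ∉ P, algebraMap A B σ ∉ P.map (algebraMap A B) := fun σ hσ h => hσ (hPQ σ h)
  intro g
  constructor
  · intro hg
    obtain ⟨σ, hσ, h⟩ := exists_uniform (B := B) P (t ^ n)
    exact ⟨_, hσQ σ hσ, by rw [← map_pow]; exact h g hg⟩
  induction n generalizing g with
  | zero =>
    intro _
    have : divBy P (t ^ 0) = ⊤ := eq_top_iff.2 fun a _ => ⟨1, P.one_notMem, by rw [pow_zero]; exact one_dvd _⟩
    rw [this, Ideal.map_top]
    trivial
  | succ n ih =>
    rintro ⟨s, hs, b, hb⟩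
    have hg : g ∈ (divBy P (t ^ n)).map (algebraMap A B) :=
      ih g ⟨s, hs, algebraMap A B t * b, by rw [hb]; ring⟩
    obtain ⟨σ, hσ, h⟩ := exists_uniform (B := B) P (t ^ n)
    obtain ⟨b', hb'⟩ := h g hg
    rw [map_pow] at hb'
    have hb'Q : b' ∈ P.map (algebraMap A B) := by
      have he : s * b' = algebraMap A B t * (algebraMap A B σ * b) := by
        apply mul_left_cancel₀ (pow_ne_zero n ht0)
        calc algebraMap A B t ^ n * (s * b') = s * (algebraMap A B σ * g) := by rw [hb']; ring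
          _ = algebraMap A B σ * (s * g) := by ring
          _ = _ := by rw [hb]; ring
      exact (hQ.mem_or_mem (by rw [he]; exact Ideal.mul_mem_right _ _ (Ideal.mem_map_of_mem _ ht) :
        s * b' ∈ P.map (algebraMap A B))).resolve_left hs
    refine mem_map_divBy_of_mul hσ ?_
    rw [hb', ← map_pow]
    have hle : Ideal.span {t ^ n} * P ≤ divBy P (t ^ (n + 1)) := Ideal.mul_le.2 fun q hq p hp => by
      obtain ⟨r, rfl⟩ := Ideal.mem_span_singleton.1 hq
      obtain ⟨τ, hτ, hd⟩ := hgen hp
      refine ⟨τ, hτ, ?_⟩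
      rw [show τ * (t ^ n * r * p) = (τ * p) * t ^ n * r by ring, pow_succ']
      exact (mul_dvd_mul_right hd _).trans (dvd_mul_right _ _)
    refine Ideal.map_mono hle ?_
    rw [Ideal.map_mul]
    exact Ideal.mul_mem_mul (Ideal.mem_map_of_mem _ (Ideal.mem_span_singleton_self _)) hb'Q

end

variable [IsDomain A] [IsNoetherianRing A] [IsIntegrallyClosed A]

theorem exists_local_data (P : Ideal A) [P.IsPrime] (hP : P.height = 1) {a : A} (ha : a ≠ 0) :
    ∃ (t : A) (m : ℕ) (σ w : A), t ∈ P ∧ t ≠ 0 ∧ P ≤ divBy P t ∧ σ ∉ P ∧ w ∉ P ∧ σ * a = t ^ m * w := by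
  haveI : IsDomain (Localization.AtPrime P) := IsLocalization.isDomain_localization P.primeCompl_le_nonZeroDivisors
  haveI : IsIntegrallyClosed (Localization.AtPrime P) :=
    isIntegrallyClosed_of_isLocalization _ P.primeCompl P.primeCompl_le_nonZeroDivisors
  have hnF : ¬ IsField (Localization.AtPrime P) := fun h => by
    have := IsLocalization.AtPrime.ringKrullDim_eq_height P (Localization.AtPrime P)
    rw [hP, ringKrullDim_eq_zero_of_isField h] at this
    exact absurd this (by decide)
  haveI : Ring.KrullDimLE 1 (Localization.AtPrime P) := by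
    rw [Ring.krullDimLE_iff, IsLocalization.AtPrime.ringKrullDim_eq_height P (Localization.AtPrime P), hP]
    rfl
  haveI : Ring.DimensionLEOne (Localization.AtPrime P) :=
    ⟨fun hp hpp => Ring.krullDimLE_one_iff_of_noZeroDivisors.1 ‹_› _ hp hpp⟩
  haveI : IsDedekindDomain (Localization.AtPrime P) := { }
  haveI : IsDiscreteValuationRing (Localization.AtPrime P) :=
    have hiff : IsDedekindDomain (Localization.AtPrime P) ↔ IsDiscreteValuationRing (Localization.AtPrime P) :=
      (IsDiscreteValuationRing.TFAE _ hnF).out 2 0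
    hiff.1 inferInstance
  obtain ⟨ϖ, hϖ⟩ := IsDiscreteValuationRing.exists_irreducible (Localization.AtPrime P)
  obtain ⟨t, s, rfl⟩ := IsLocalization.exists_mk'_eq P.primeCompl ϖ
  have hmax := hϖ.maximalIdeal_eq
  have hts : IsLocalization.mk' (Localization.AtPrime P) t s =
      algebraMap A (Localization.AtPrime P) t * IsLocalization.mk' (Localization.AtPrime P) 1 s := by
    rw [IsLocalization.mul_mk'_eq_mk'_of_mul, mul_one]
  have hassoc : Associated (IsLocalization.mk' (Localization.AtPrime P) t s) (algebraMap A (Localization.AtPrime P) t) := by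
    have hu : IsUnit (algebraMap A (Localization.AtPrime P) (s : A)) := IsLocalization.map_units _ s
    exact ⟨hu.unit, IsLocalization.mk'_spec _ t s⟩
  have hirr : Irreducible (algebraMap A (Localization.AtPrime P) t) := hassoc.irreducible hϖ
  have hmax' := hirr.maximalIdeal_eq
  have htP : t ∈ P := by
    rw [← IsLocalization.AtPrime.to_map_mem_maximal_iff (Localization.AtPrime P) P t, hmax']
    exact Ideal.mem_span_singleton_self _
  have ht0 : t ≠ 0 := fun h => hirr.ne_zero (by rw [h, map_zero])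
  have hdiv : ∀ x y : A, algebraMap A (Localization.AtPrime P) x ∣ algebraMap A (Localization.AtPrime P) y →
      ∃ σ ∉ P, x ∣ σ * y := by
    rintro x y ⟨z, hz⟩
    obtain ⟨z, σ, rfl⟩ := IsLocalization.exists_mk'_eq P.primeCompl z
    refine ⟨σ, σ.2, z, IsLocalization.injective (Localization.AtPrime P) P.primeCompl_le_nonZeroDivisors ?_⟩
    rw [map_mul, hz, mul_left_comm, IsLocalization.mk'_spec', ← map_mul]
  obtain ⟨m, u, hu⟩ := IsDiscreteValuationRing.eq_unit_mul_pow_irreducible
    (x := algebraMap A (Localization.AtPrime P) a)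
    (by simpa using (IsLocalization.injective (Localization.AtPrime P) P.primeCompl_le_nonZeroDivisors).ne ha) hirr
  obtain ⟨w, r, hw⟩ := IsLocalization.exists_mk'_eq P.primeCompl (u : Localization.AtPrime P)
  refine ⟨t, m, r, w, htP, ht0, fun p hp => hdiv t p ?_, r.2, ?_, ?_⟩
  · rw [← Ideal.mem_span_singleton, ← hmax']
    exact (IsLocalization.AtPrime.to_map_mem_maximal_iff (Localization.AtPrime P) P p).2 hp
  · intro hwP
    have : (u : Localization.AtPrime P) ∈ maximalIdeal (Localization.AtPrime P) := by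
      rw [← hw, IsLocalization.AtPrime.mk'_mem_maximal_iff (Localization.AtPrime P) P w r]
      exact hwP
    exact (IsLocalRing.mem_maximalIdeal _).1 this u.isUnit
  · apply IsLocalization.injective (Localization.AtPrime P) P.primeCompl_le_nonZeroDivisors
    rw [map_mul, map_mul, map_pow, hu.symm.symm, ← hw, ← mul_assoc, IsLocalization.mk'_spec', mul_comm]

variable [IsDomain B] [IsLocalRing B] [Module.Flat A B]

theorem exists_order_iff {P : Ideal A} [P.IsPrime] (hQ : (P.map (algebraMap A B)).IsPrime)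
    (hPQ : ∀ s : A, algebraMap A B s ∈ P.map (algebraMap A B) → s ∈ P) {t : A} (ht : t ∈ P) (htB : algebraMap A B t ≠ 0)
    (hgen : P ≤ divBy P t) {m : ℕ} {σ w a : A} (hσ : σ ∉ P) (hw : w ∉ P) (hσa : σ * a = t ^ m * w) {f c : B}
    (he : f * c = algebraMap A B a) :
    ∃ n, ∀ g : B, g ∈ (divBy P (t ^ n)).map (algebraMap A B) ↔ g * c ∈ (divBy P (t ^ m)).map (algebraMap A B) := by
  have hiff := mem_map_divBy_iff hQ hPQ ht htB hgen
  have hσQ : algebraMap A B σ ∉ P.map (algebraMap A B) := fun h => hσ (hPQ _ h)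
  have hwQ : algebraMap A B w ∉ P.map (algebraMap A B) := fun h => hw (hPQ _ h)
  have hσa' : algebraMap A B σ * algebraMap A B a = algebraMap A B t ^ m * algebraMap A B w := by
    rw [← map_mul, hσa, map_mul, map_pow]
  obtain ⟨n, u, s, hu, hs, hf⟩ := exists_order hQ hPQ ht htB hgen m f (algebraMap A B σ * c) (algebraMap A B w) hwQ
    (by rw [mul_left_comm, he, hσa'])
  refine ⟨n, fun g => ?_⟩
  rw [hiff, hiff]
  have hkey : algebraMap A B t ^ n * (u * algebraMap A B σ * c) = algebraMap A B t ^ m * (s * algebraMap A B w) := by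
    calc _ = algebraMap A B σ * (algebraMap A B t ^ n * u) * c := by ring
      _ = s * (algebraMap A B σ * (f * c)) := by rw [← hf]; ring
      _ = _ := by rw [he, hσa']; ring
  constructor
  · rintro ⟨s', hs', b, hb⟩
    refine ⟨s' * (u * algebraMap A B σ), fun h => (hQ.mem_or_mem h).elim hs' fun h => (hQ.mem_or_mem h).elim hu hσQ,
      b * (s * algebraMap A B w), ?_⟩
    calc s' * (u * algebraMap A B σ) * (g * c) = (s' * g) * (u * algebraMap A B σ * c) := by ring
      _ = b * (algebraMap A B t ^ n * (u * algebraMap A B σ * c)) := by rw [hb]; ring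
      _ = _ := by rw [hkey]; ring
  · rintro ⟨s', hs', b, hb⟩
    refine ⟨s' * (s * algebraMap A B w), fun h => (hQ.mem_or_mem h).elim hs' fun h => (hQ.mem_or_mem h).elim hs hwQ,
      u * algebraMap A B σ * b, ?_⟩
    apply mul_left_cancel₀ (pow_ne_zero m htB)
    calc algebraMap A B t ^ m * (s' * (s * algebraMap A B w) * g)
        = s' * g * (algebraMap A B t ^ n * (u * algebraMap A B σ * c)) := by rw [hkey]; ring
      _ = algebraMap A B t ^ n * (u * algebraMap A B σ) * (s' * (g * c)) := by ring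
      _ = _ := by rw [hb]; ring

/-- A function which is invertible on the generic fibre is a unit times one from the base. -/
theorem exists_unit_mul_of_generic (hinj : Function.Injective (algebraMap A B))
    (hprime : ∀ (P : Ideal A) [P.IsPrime], P.height = 1 → (P.map (algebraMap A B)).IsPrime)
    (hover : ∀ (P : Ideal A) [P.IsPrime], P.height = 1 → ∀ s, algebraMap A B s ∈ P.map (algebraMap A B) → s ∈ P)
    {f c : B} {a : A} (ha : a ≠ 0) (he : f * c = algebraMap A B a) :
    ∃ (a' : A) (u : Bˣ), f = algebraMap A B a' * u := by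
  classical
  let S := (associatedPrimes.finite A (A ⧸ Ideal.span {a})).toFinset
  have hS1 : ∀ P ∈ S, P.height = 1 := fun P hP =>
    NormalLib.height_eq_one_of_mem_associatedPrimes ha ((Set.Finite.mem_toFinset _).1 hP)
  have hSp : ∀ P ∈ S, P.IsPrime := fun P hP => ((Set.Finite.mem_toFinset _).1 hP).isPrime
  have hdata : ∀ P ∈ S, ∃ (hp : P.IsPrime) (t : A) (m : ℕ) (σ w : A), t ∈ P ∧ t ≠ 0 ∧ P ≤ divBy (hP := hp) P t ∧
      σ ∉ P ∧ w ∉ P ∧ σ * a = t ^ m * w := fun P hP => by
    haveI := hSp P hP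
    exact ⟨inferInstance, exists_local_data P (hS1 P hP) ha⟩
  choose hPp t m σ w ht ht0 hgen hσ hw hσa using hdata
  have hgab : ∀ g : B, (∀ P (hP : P ∈ S), g ∈ (divBy (hP := hPp P hP) P (t P hP ^ m P hP)).map (algebraMap A B)) →
      algebraMap A B a ∣ g := by
    intro g hg
    have h := map_finset_inf_of_flat S.attach (fun P => divBy (hP := hPp P.1 P.2) P.1 (t P.1 P.2 ^ m P.1 P.2)) (g := g)
      fun P _ => hg P.1 P.2
    suffices hle : S.attach.inf (fun P => divBy (hP := hPp P.1 P.2) P.1 (t P.1 P.2 ^ m P.1 P.2)) ≤ Ideal.span {a} by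
      have := Ideal.map_mono hle h
      rw [Ideal.map_span, Set.image_singleton] at this
      exact Ideal.mem_span_singleton.1 this
    intro x hx
    by_contra hxa
    have hne : Ideal.Quotient.mk (Ideal.span {a}) x ≠ 0 := fun h => hxa (Ideal.Quotient.eq_zero_iff_mem.1 h)
    obtain ⟨P, hP, hle⟩ := exists_le_isAssociatedPrime_of_isNoetherianRing A _ hne
    have hPS : P ∈ S := (Set.Finite.mem_toFinset _).2 hP
    haveI := hPp P hPS
    obtain ⟨τ, hτ, r, hr⟩ : x ∈ divBy P (t P hPS ^ m P hPS) :=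
      SetLike.le_def.1 (Finset.inf_le (f := fun P : S => divBy (hP := hPp P.1 P.2) P.1 (t P.1 P.2 ^ m P.1 P.2))
        (Finset.mem_attach S ⟨P, hPS⟩)) hx
    have hmem : τ * w P hPS ∈ P := by
      apply hle
      rw [Submodule.mem_colon_singleton, Submodule.mem_bot, Algebra.smul_def, Ideal.Quotient.algebraMap_eq, ← map_mul,
        Ideal.Quotient.eq_zero_iff_mem, Ideal.mem_span_singleton]
      refine ⟨σ P hPS * r, ?_⟩
      calc τ * w P hPS * x = w P hPS * (τ * x) := by ring
        _ = (t P hPS ^ m P hPS * w P hPS) * r := by rw [hr]; ring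
        _ = _ := by rw [← hσa P hPS]; ring
    exact ((hPp P hPS).mem_or_mem hmem).elim hτ (hw P hPS)
  -- orders of `f`
  have hord : ∀ P (hP : P ∈ S), ∃ n, ∀ g : B, g ∈ (divBy (hP := hPp P hP) P (t P hP ^ n)).map (algebraMap A B) ↔
      g * c ∈ (divBy (hP := hPp P hP) P (t P hP ^ m P hP)).map (algebraMap A B) := by
    intro P hP
    haveI := hPp P hP
    exact exists_order_iff (hprime P (hS1 P hP)) (hover P (hS1 P hP)) (ht P hP)
      (by rw [← map_zero (algebraMap A B)]; exact hinj.ne (ht0 P hP)) (hgen P hP) (hσ P hP) (hw P hP) (hσa P hP) he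
  choose n hn using hord
  let J := S.attach.inf (fun P => divBy (hP := hPp P.1 P.2) P.1 (t P.1 P.2 ^ n P.1 P.2))
  have hsub : ∀ g ∈ J.map (algebraMap A B), f ∣ g := by
    intro g hg
    have : algebraMap A B a ∣ g * c := hgab _ fun P hP => (hn P hP g).1
      (Ideal.map_mono (Finset.inf_le (f := fun P : S => divBy (hP := hPp P.1 P.2) P.1 (t P.1 P.2 ^ n P.1 P.2))
        (Finset.mem_attach S ⟨P, hP⟩)) hg)
    have hc : c ≠ 0 := by
      intro h
      rw [h, mul_zero] at he
      exact ha (hinj (by rw [map_zero, ← he]))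
    rw [← he] at this
    exact (mul_dvd_mul_iff_right hc).1 this
  have hf : f ∈ J.map (algebraMap A B) := map_finset_inf_of_flat S.attach _ fun P _ => by
    rw [hn P.1 P.2 f, he]
    haveI := hPp P.1 P.2
    exact Ideal.mem_map_of_mem _ ⟨σ P.1 P.2, hσ P.1 P.2, ⟨w P.1 P.2, hσa P.1 P.2⟩⟩
  -- some element of `J` generates
  have hf0 : f ≠ 0 := by
    intro h
    rw [h, zero_mul] at he
    exact ha (hinj (by rw [map_zero, ← he]))
  have : ∃ x ∈ J, ∃ b : B, algebraMap A B x = f * b ∧ IsUnit b := by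
    by_contra hcon
    push Not at hcon
    have hle : J.map (algebraMap A B) ≤ Ideal.span {f} * maximalIdeal B := by
      rw [Ideal.map_le_iff_le_comap]
      intro x hx
      obtain ⟨b, hb⟩ := hsub _ (Ideal.mem_map_of_mem _ hx)
      rw [Ideal.mem_comap, hb]
      exact Ideal.mul_mem_mul (Ideal.mem_span_singleton_self f) ((IsLocalRing.mem_maximalIdeal _).2 (hcon x hx b hb))
    obtain ⟨z, hz, hfz⟩ := Ideal.mem_span_singleton_mul.1 (hle hf)
    have hz1 : z = 1 := mul_left_cancel₀ hf0 (by rw [hfz, mul_one])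
    exact (IsLocalRing.mem_maximalIdeal _).1 hz (hz1 ▸ isUnit_one)
  obtain ⟨x, -, b, hb, hbu⟩ := this
  refine ⟨x, hbu.unit⁻¹, ?_⟩
  rw [hb, mul_assoc, IsUnit.mul_val_inv, mul_one]

end SquareLib
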