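import Groth.Agent.SquareLib.Coord
import Groth.Agent.TwistLib.ProjSymExt

/-!
Rational trivialisations from the generic fibre.
-/

set_option autoImplicit false
set_option linter.style.haveILetI false

universe u

open CategoryTheory CategoryTheory.Limits AlgebraicGeometry TopologicalSpace
open KFlatLib (pb puSec)
open AmpleLib (res GenAt GenOn)
open CDivCoreLib (mem_of_open algebraMap_germ)

noncomputable section

namespace SquareLib

variable {X Z : Scheme.{u}}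

theorem specializes_of_map {ι : Z ⟶ X} [IsPreimmersion ι] {a b : Z} (h : ι a ⤳ ι b) : a ⤳ b :=
  ι.isEmbedding.isInducing.specializes_iff.1 h

theorem puSec_germ_eq (ι : Z ⟶ X) {L : X.Modules} {W W' : X.Opens} (σ : Γ(L, W)) (σ' : Γ(L, W')) {z : Z}
    (hz : ι z ∈ W) (hz' : ι z ∈ W')
    (h : L.presheaf.germ W (ι z) hz σ = L.presheaf.germ W' (ι z) hz' σ') :
    (pb ι L).presheaf.germ (ι ⁻¹ᵁ W) z hz (puSec ι σ) = (pb ι L).presheaf.germ (ι ⁻¹ᵁ W') z hz' (puSec ι σ') := by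
  obtain ⟨T, hzT, i₁, i₂, e⟩ := TopCat.Presheaf.germ_eq L.presheaf (ι z) hz hz' _ _ h
  have e' : res L i₁.le σ = res L i₂.le σ' := e
  have e2 := congrArg (fun t => (pb ι L).presheaf.germ (ι ⁻¹ᵁ T) z hzT (puSec ι t)) e'
  simp only [TwistLib.puSec_res, AmpleLib.germ_res] at e2
  exact e2

variable [IsIntegral X]

theorem exists_gen_of_trivial (ι : Z ⟶ X) [IsPreimmersion ι] {L : X.Modules} (hL : PicF.IsInvertible L)
    (τ : pb ι L ≅ Coh.structureModule Z) {z₀ : Z} (hz₀ : ι z₀ = genericPoint X) :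
    ∃ (e : L.presheaf.stalk (genericPoint X)) (_ : Function.Bijective fun c : X.functionField => c • e)
      (f : X.functionField), ∀ z : Z, IsGen L e (ι z) f := by
  obtain ⟨U₀, e₀, hU₀, he₀⟩ := TwistLib.exists_genOn hL (genericPoint X)
  refine ⟨L.presheaf.germ U₀ _ hU₀ e₀, he₀.genAt hU₀, ?_⟩
  let ρ : X.functionField →+* Z.presheaf.stalk z₀ :=
    ((X.presheaf.stalkSpecializes (specializes_of_eq hz₀)) ≫ ι.stalkMap z₀).hom
  have hρ : Function.Injective ρ := RingHom.injective ρ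
  have hρs : Function.Surjective ρ := by
    intro c
    obtain ⟨b, rfl⟩ := ι.stalkMap_surjective z₀ c
    refine ⟨(X.presheaf.stalkSpecializes (specializes_of_eq hz₀.symm)).hom b, ?_⟩
    show (ι.stalkMap z₀).hom ((X.presheaf.stalkSpecializes _).hom ((X.presheaf.stalkSpecializes _).hom b)) = _
    rw [← RingHom.comp_apply (X.presheaf.stalkSpecializes _).hom, ← CommRingCat.hom_comp,
      TopCat.Presheaf.stalkSpecializes_comp, TopCat.Presheaf.stalkSpecializes_refl]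
    rfl
  have h0 : ι z₀ ∈ U₀ := by rw [hz₀]; exact hU₀
  have hε := TwistLib.GenAt.puSec ι (U := U₀) (m := e₀) (hx := h0) (he₀.genAt h0)
  let ε := (pb ι L).presheaf.germ (ι ⁻¹ᵁ U₀) z₀ h0 (puSec ι e₀)
  have hcoord : ∀ (W : X.Opens) (hη : genericPoint X ∈ W) (σ : Γ(L, W)) (g : X.functionField),
      L.presheaf.germ W _ hη σ = g • L.presheaf.germ U₀ _ hU₀ e₀ →
      (pb ι L).presheaf.germ (ι ⁻¹ᵁ W) z₀ (show ι z₀ ∈ W by rw [hz₀]; exact hη) (puSec ι σ) = ρ g • ε := by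
    intro W hη σ g hg
    obtain ⟨V, hV, r, rfl⟩ := X.presheaf.exists_germ_eq g
    let r' : Γ(X, V ⊓ U₀) := X.presheaf.map (homOfLE (inf_le_left : V ⊓ U₀ ≤ V)).op r
    have hzW : ι z₀ ∈ W := by rw [hz₀]; exact hη
    have hzT : ι z₀ ∈ V ⊓ U₀ := by rw [hz₀]; exact ⟨hV, hU₀⟩
    have hgerm : L.presheaf.germ W (ι z₀) hzW σ =
        L.presheaf.germ (V ⊓ U₀) (ι z₀) hzT (r' • res L inf_le_right e₀) := by
      have key : ∀ (p : X) (hp : p = genericPoint X) (h1 : p ∈ W) (h2 : p ∈ V ⊓ U₀),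
          L.presheaf.germ W p h1 σ = L.presheaf.germ (V ⊓ U₀) p h2 (r' • res L inf_le_right e₀) := by
        rintro p rfl h1 h2
        rw [AmpleLib.germ_smul, AmpleLib.germ_res, TopCat.Presheaf.germ_res_apply, hg]
      exact key _ hz₀ _ _
    rw [puSec_germ_eq ι σ _ hzW hzT hgerm, TwistLib.puSec_smul, AmpleLib.germ_smul, TwistLib.puSec_res,
      AmpleLib.germ_res]
    congr 1
    show _ = (ι.stalkMap z₀).hom ((X.presheaf.stalkSpecializes _).hom (X.presheaf.germ V _ hV r))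
    rw [TopCat.Presheaf.germ_stalkSpecializes_apply, Scheme.Hom.germ_stalkMap_apply]
    exact (Scheme.Hom.germ_stalkMap_apply ι _ z₀ hzT r').symm.trans
      ((congrArg (ι.stalkMap z₀).hom (TopCat.Presheaf.germ_res_apply _ _ _ hzT r)).trans
        (Scheme.Hom.germ_stalkMap_apply ι _ z₀ hzT.1 r))
  let s : Γ(pb ι L, (⊤ : Z.Opens)) := τ.inv.app ⊤ (1 : Γ(Z, ⊤))
  have hs : ∀ z : Z, GenAt (pb ι L) s (show z ∈ (⊤ : Z.Opens) from trivial) := fun z =>
    (TwistLib.genAt_app_iso τ.symm _ _).2 ((AmpleLib.one_genOn ⊤).genAt _)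
  obtain ⟨c₀, hc₀⟩ := hε.2 ((pb ι L).presheaf.germ ⊤ z₀ trivial s)
  obtain ⟨f, rfl⟩ := hρs c₀
  refine ⟨f, fun z => ?_⟩
  obtain ⟨U, σ, hxU, hσ⟩ := TwistLib.exists_genOn hL (ι z)
  have hσz := TwistLib.GenAt.puSec ι (U := U) (m := σ) (hx := hxU) (hσ.genAt hxU)
  obtain ⟨c, hc⟩ := hσz.2 ((pb ι L).presheaf.germ ⊤ z trivial s)
  dsimp only at hc hc₀
  obtain ⟨c', rfl⟩ := ι.stalkMap_surjective z c
  have hu : IsUnit c' := by
    refine isUnit_of_map_unit (ι.stalkMap z).hom _ ?_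
    obtain ⟨d, hd⟩ := (hs z).2 ((pb ι L).presheaf.germ (ι ⁻¹ᵁ U) z hxU (puSec ι σ))
    refine IsUnit.of_mul_eq_one_right d (hσz.1 ?_)
    dsimp only at hd ⊢
    rw [mul_smul, hc, hd, one_smul]
  obtain ⟨V, hxV, r, rfl⟩ := X.presheaf.exists_germ_eq c'
  let r' : Γ(X, V ⊓ U) := X.presheaf.map (homOfLE (inf_le_left : V ⊓ U ≤ V)).op r
  have hxT : ι z ∈ V ⊓ U := ⟨hxV, hxU⟩
  let σ' := r' • res L (inf_le_right : V ⊓ U ≤ U) σ
  have hσ' : GenAt L σ' hxT := by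
    refine (AmpleLib.genAt_smul_iff r' _ hxT
      ((AmpleLib.genAt_res (inf_le_right : V ⊓ U ≤ U) σ hxT).2 (hσ.genAt hxU))).2 ?_
    rw [Scheme.mem_basicOpen _ _ _ hxT]
    show IsUnit (X.presheaf.germ (V ⊓ U) (ι z) hxT (X.presheaf.map (homOfLE (inf_le_left : V ⊓ U ≤ V)).op r))
    rw [TopCat.Presheaf.germ_res_apply]
    exact hu
  obtain ⟨g, hg⟩ := (he₀.genAt hU₀).2 (L.presheaf.germ (V ⊓ U) _ (mem_of_open hxT) σ')
  have hsz : (pb ι L).presheaf.germ (ι ⁻¹ᵁ (V ⊓ U)) z hxT (puSec ι σ') = (pb ι L).presheaf.germ ⊤ z trivial s := by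
    rw [← hc, TwistLib.puSec_smul, AmpleLib.germ_smul, TwistLib.puSec_res, AmpleLib.germ_res,
      Scheme.Hom.germ_stalkMap_apply]
    congr 1
    exact (Scheme.Hom.germ_stalkMap_apply ι _ z hxT r').symm.trans
      ((congrArg (ι.stalkMap z).hom (TopCat.Presheaf.germ_res_apply _ _ _ hxT r)).trans
        (Scheme.Hom.germ_stalkMap_apply ι _ z hxV r))
  obtain ⟨T, hzT, i₁, i₂, e⟩ := TopCat.Presheaf.germ_eq (pb ι L).presheaf z (show z ∈ ι ⁻¹ᵁ (V ⊓ U) from hxT) (show z ∈ (⊤ : Z.Opens) from trivial) _ _ hsz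
  have hsp : z₀ ⤳ z := specializes_of_map (ι := ι) (by rw [hz₀]; exact genericPoint_specializes _)
  have e2 := congrArg ((pb ι L).presheaf.germ T z₀ (hsp.mem_open T.2 hzT)) e
  rw [TopCat.Presheaf.germ_res_apply, TopCat.Presheaf.germ_res_apply,
    hcoord _ (mem_of_open hxT) σ' g hg.symm, ← hc₀] at e2
  obtain rfl : g = f := hρ (hε.1 e2)
  exact ⟨_, hxT, σ', hσ', hg.symm⟩

end SquareLib

end
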