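import Groth.Agent.AVThetaLib.DescLineGlobal

/-!
Descent of an invertible module with generators whose transition functions come from the base.
-/

set_option autoImplicit false

universe u

open CategoryTheory AlgebraicGeometry TopologicalSpace
open KFlatLib (pb puSec puSecLE)
open AmpleLib (res GenOn)

noncomputable section

namespace SquareLib

variable {X Y : Scheme.{u}} {f : X ⟶ Y} {M : X.Modules}

theorem exists_descent_of_gens [Flat f] [Surjective f] (V : Y → Y.Opens) (hV : ∀ y, y ∈ V y)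
    (e : ∀ y, Γ(M, f ⁻¹ᵁ V y)) (hegen : ∀ y, GenOn M (e y))
    (overlap : ∀ j i, ∃ d : Γ(Y, V j ⊓ V i),
      (show Γ(X, f ⁻¹ᵁ (V j ⊓ V i)) from f.app _ d) • res M (f.preimage_mono inf_le_right) (e i) =
        res M (f.preimage_mono (inf_le_left : V j ⊓ V i ≤ V j)) (e j)) :
    ∃ N : Y.Modules, PicF.IsInvertible N ∧ Nonempty (pb f N ≅ M) := by
  let F₀ : Y.Modules := (Scheme.Modules.pushforward f).obj M
  let e₀ : ∀ y, Γ(F₀, V y) := fun y => show Γ(M, f ⁻¹ᵁ V y) from e y
  let S := AVThetaLib.spanAll (F := F₀) V e₀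
  have hmem : ∀ j, S.mem (V j) (e₀ j) := fun j i p hp hpi => by
    obtain ⟨d, hd⟩ := overlap j i
    refine ⟨V j ⊓ V i, inf_le_left, inf_le_right, ⟨hp, hpi⟩, fun _ => d, ?_⟩
    rw [Finset.univ_unique, Finset.sum_singleton]
    exact hd.symm
  let ê : ∀ j, Γ(S.toModules, V j) := fun j => S.lift (e₀ j) (hmem j)
  have hsm : ∀ (j) (W : Y.Opens) (hW : W ≤ V j) (r : Γ(Y, W)), S.ι.app W (r • res S.toModules hW (ê j)) =
      (show Γ(F₀, W) from (f.app W r • res M (f.preimage_mono hW) (e j) : Γ(M, f ⁻¹ᵁ W))) := fun j W hW r => by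
    rw [QCohLib.app_smul, show S.ι.app W (res S.toModules hW (ê j)) = res F₀ hW (e₀ j) from
      QCohLib.app_map S.ι (homOfLE hW) (ê j)]
    rfl
  have hinj : ∀ (j) (W : Y.Opens) (hW : W ≤ V j),
      Function.Injective fun r : Γ(Y, W) => r • res S.toModules hW (ê j) := fun j W hW r r' h => by
    have h2 := congrArg (S.ι.app W) h
    simp only [hsm] at h2
    exact AVThetaLib.app_injective_of_flat_surjective f W ((hegen j _ (f.preimage_mono hW)).1 h2)
  have hgen : ∀ j, GenOn S.toModules (ê j) := fun j W hW => by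
    refine ⟨hinj j W hW, fun t => ?_⟩
    choose W' hW' hWV hpW c hc using fun p : W => S.ι_app_mem t j p.1 p.2 (hW p.2)
    have hloc : ∀ p : W, c p PUnit.unit • res S.toModules (hWV p) (ê j) = res S.toModules (hW' p) t := fun p => by
      refine S.ι_app_injective _ ?_
      rw [hsm, show S.ι.app (W' p) (res S.toModules (hW' p) t) = res F₀ (hW' p) (S.ι.app W t) from
        QCohLib.app_map S.ι (homOfLE (hW' p)) t]
      have := hc p
      rw [Finset.univ_unique, Finset.sum_singleton] at this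
      exact this.symm
    obtain ⟨g, hg⟩ := ModGlueLib.exists_glue (M := Coh.structureModule Y) W' hW' (fun p hp => ⟨⟨p, hp⟩, hpW _⟩)
      (fun p => c p PUnit.unit) fun p q => by
        refine hinj j (W' p ⊓ W' q) (inf_le_left.trans (hWV p)) ?_
        have e1 := congrArg (res S.toModules (inf_le_left : W' p ⊓ W' q ≤ W' p)) (hloc p)
        have e2 := congrArg (res S.toModules (inf_le_right : W' p ⊓ W' q ≤ W' q)) (hloc q)
        simp only [AmpleLib.res_smul, AmpleLib.res_res] at e1 e2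
        exact e1.trans e2.symm
    refine ⟨(show Γ(Y, W) from g), ModGlueLib.eq_of_locally _ _ fun p hp => ⟨W' ⟨p, hp⟩, hW' _, hpW _, ?_⟩⟩
    refine Eq.trans ?_ (hloc ⟨p, hp⟩)
    show res S.toModules _ ((show Γ(Y, W) from g) • res S.toModules hW (ê j)) = _
    rw [AmpleLib.res_smul, AmpleLib.res_res]
    exact congrArg (· • res S.toModules _ (ê j)) (hg ⟨p, hp⟩)
  let Φ : pb f S.toModules ⟶ M := ((Scheme.Modules.pullbackPushforwardAdjunction f).homEquiv _ _).symm S.ι
  have hΦ : IsIso Φ := by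
    refine RpushLib.isIso_of_bijective_basis _ (B := {U : X.Opens | ∃ j, U ≤ f ⁻¹ᵁ V j})
      (Opens.isBasis_iff_nbhd.2 fun {U x} hx => ⟨U ⊓ f ⁻¹ᵁ V (f x), ⟨f x, inf_le_right⟩, ⟨hx, hV _⟩, inf_le_left⟩)
      fun U ⟨j, hU⟩ => ?_
    refine (Function.Bijective.of_comp_iff _ (CubeLib.genOn_puSecLE f (hgen j) hU U le_rfl)).1 ?_
    refine Eq.mpr (congrArg Function.Bijective ?_) (hegen j U hU)
    funext r
    show Φ.app U (r • res (pb f S.toModules) le_rfl (puSecLE f S.toModules hU (ê j))) = r • res M hU (e j)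
    rw [QCohLib.app_smul, AmpleLib.res_refl, KFlatLib.puSecLE_apply]
    refine congrArg (r • ·) ?_
    refine (QCohLib.app_map Φ (homOfLE hU) _).trans ?_
    rw [AVThetaLib.puSec_adjunct f S.ι (ê j)]
    rfl
  exact ⟨S.toModules, TwistLib.isInvertible_of_genOn V (fun y => ⟨y, hV y⟩) ê hgen, ⟨asIso Φ⟩⟩

end SquareLib

end
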