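import Groth.Agent.CubeConsLib.FieldHom
import Mathlib.Tactic.Abel

/-!
The alternating relation for a product with two complete factors.
-/

set_option autoImplicit false
set_option maxRecDepth 8000
set_option maxHeartbeats 1000000

noncomputable section

universe u

open CategoryTheory CategoryTheory.Limits MonoidalCategory CartesianMonoidalCategory AlgebraicGeometry
open CubeConsLib

namespace SquareLib

/-- The classes of invertible modules. -/
def Inv (X : Scheme.{u}) : AddSubgroup (PicA X) where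
  carrier := {x | ∃ (M : X.Modules) (hM : PicF.IsInvertible M), clA hM = x}
  zero_mem' := ⟨_, isInvertible_one _, clA_one _⟩
  add_mem' := by
    rintro _ _ ⟨M, hM, rfl⟩ ⟨N, hN, rfl⟩
    exact ⟨_, _, clA_tensor hM hN⟩
  neg_mem' := by
    rintro _ ⟨M, hM, rfl⟩
    exact ⟨_, _, clA_dual hM⟩

theorem clA_mem {X : Scheme.{u}} {L : X.Modules} (hL : PicF.IsInvertible L) : clA hL ∈ Inv X := ⟨L, hL, rfl⟩

theorem pullA_mem {X Y : Scheme.{u}} (g : Y ⟶ X) {c : PicA X} (hc : c ∈ Inv X) : pullA g c ∈ Inv Y := by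
  obtain ⟨M, hM, rfl⟩ := hc
  exact ⟨_, _, (pullA_clA g hM).symm⟩

variable {K : Type u} [Field K]

/-- Pullback of classes along a morphism over the field. -/
def pb {X Y : Over (Spec (CommRingCat.of K))} (f : Y ⟶ X) : PicA X.left →+ PicA Y.left := pullA f.left

theorem pb_mem {X Y : Over (Spec (CommRingCat.of K))} (f : Y ⟶ X) {c : PicA X.left} (hc : c ∈ Inv X.left) :
    pb f c ∈ Inv Y.left := pullA_mem _ hc

theorem pb_comp {X Y Z : Over (Spec (CommRingCat.of K))} (g : Z ⟶ Y) (f : Y ⟶ X) (c : PicA X.left) :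
    pb g (pb f c) = pb (g ≫ f) c := by
  rw [pb, pb, pb, pullA_comp, ← Over.comp_left]

theorem pb_id {X : Over (Spec (CommRingCat.of K))} (c : PicA X.left) : pb (𝟙 X) c = c := by
  rw [pb, Over.id_left, pullA_id]

theorem pb_point {X Y : Over (Spec (CommRingCat.of K))} (p : 𝟙_ _ ⟶ X) {c : PicA X.left} (hc : c ∈ Inv X.left) :
    pb (toUnit Y ≫ p) c = 0 := by
  obtain ⟨M, hM, rfl⟩ := hc
  exact P_const hM p

/-- The restriction to `{a} × {b} × Z`. -/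
def E {X Y Z : Over (Spec (CommRingCat.of K))} (c : PicA ((X ⊗ Y) ⊗ Z).left) (a : 𝟙_ _ ⟶ X) (b : 𝟙_ _ ⟶ Y) :
    PicA Z.left :=
  pb (lift (lift (toUnit Z ≫ a) (toUnit Z ≫ b)) (𝟙 Z)) c

/-- A triple product, with the first two factors complete, satisfies the alternating relation at base points. -/
theorem square_base {X Y Z : Over (Spec (CommRingCat.of K))} [IsProper X.hom] [GeometricallyIntegral X.hom]
    [IsProper Y.hom] [GeometricallyIntegral Y.hom] [GeometricallyIntegral Z.hom]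
    {c : PicA ((X ⊗ Y) ⊗ Z).left} (hc : c ∈ Inv _) (x : 𝟙_ _ ⟶ X) (y : 𝟙_ _ ⟶ Y) (z : 𝟙_ _ ⟶ Z)
    (a : 𝟙_ _ ⟶ X) (b : 𝟙_ _ ⟶ Y) :
    E c a b + E c x y = E c a y + E c x b := by
  let rx : (X ⊗ Y) ⊗ Z ⟶ (X ⊗ Y) ⊗ Z := lift (lift (toUnit _ ≫ x) (fst _ _ ≫ snd _ _)) (snd _ _)
  let ry : (X ⊗ Y) ⊗ Z ⟶ (X ⊗ Y) ⊗ Z := lift (lift (fst _ _ ≫ fst _ _) (toUnit _ ≫ y)) (snd _ _)
  let rz : (X ⊗ Y) ⊗ Z ⟶ (X ⊗ Y) ⊗ Z := lift (fst _ _) (toUnit _ ≫ z)
  let d : PicA ((X ⊗ Y) ⊗ Z).left := c - pb rx c - pb ry c - pb rz c + pb (rx ≫ ry) c + pb (rx ≫ rz) c +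
    pb (ry ≫ rz) c - pb (rx ≫ ry ≫ rz) c
  have hd : d ∈ Inv _ := sub_mem (add_mem (add_mem (add_mem (sub_mem (sub_mem (sub_mem hc (pb_mem _ hc))
    (pb_mem _ hc)) (pb_mem _ hc)) (pb_mem _ hc)) (pb_mem _ hc)) (pb_mem _ hc)) (pb_mem _ hc)
  -- the three restrictions vanish
  have key : ∀ {V : Over (Spec (CommRingCat.of K))} (j : V ⟶ (X ⊗ Y) ⊗ Z),
      j ≫ rx = j ∨ j ≫ ry = j ∨ j ≫ rz = j → pb j d = 0 := by
    intro V j h
    have cxy : rx ≫ ry = ry ≫ rx := by ext <;> simp [rx, ry]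
    have cxz : rx ≫ rz = rz ≫ rx := by ext <;> simp [rx, rz]
    have cyz : ry ≫ rz = rz ≫ ry := by ext <;> simp [ry, rz]
    simp only [d, map_add, map_sub, pb_comp]
    rcases h with h | h | h
    · simp only [reassoc_of% h, h]
      abel
    · simp only [cxy, reassoc_of% cxy, reassoc_of% h, h]
      abel
    · simp only [cxz, cyz, reassoc_of% cxz, reassoc_of% h, h]
      abel
  let j₁ : Y ⊗ Z ⟶ (X ⊗ Y) ⊗ Z := lift (lift (toUnit _ ≫ x) (fst _ _)) (snd _ _)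
  let j₂ : X ⊗ Z ⟶ (X ⊗ Y) ⊗ Z := lift (lift (fst _ _) (toUnit _ ≫ y)) (snd _ _)
  let j₃ : X ⊗ Y ⟶ (X ⊗ Y) ⊗ Z := lift (𝟙 _) (toUnit _ ≫ z)
  obtain ⟨N, hN, hNd⟩ := hd
  have hz : ∀ {V : Over (Spec (CommRingCat.of K))} (j : V ⟶ (X ⊗ Y) ⊗ Z), pb j d = 0 →
      Nonempty ((Scheme.Modules.pullback j.left).obj N ≅ Coh.structureModule V.left) := by
    intro V j h
    rw [← hNd, pb, pullA_clA, ← clA_one, clA_eq_iff] at h
    exact h
  have : LocallyOfFinitePresentation X.hom := LocallyOfFinitePresentation.iff_locallyOfFiniteType.2 inferInstance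
  have : LocallyOfFinitePresentation Y.hom := LocallyOfFinitePresentation.iff_locallyOfFiniteType.2 inferInstance
  have : GeometricallyConnected Z.hom := H0Lib.geometricallyConnected_of_integral Z.hom
  have hconst : ∀ {V W : Over (Spec (CommRingCat.of K))} (p : 𝟙_ _ ⟶ W), (toUnit V ≫ p).left = V.hom ≫ p.left :=
    fun p => by rw [Over.comp_left]; rfl
  obtain ⟨e⟩ := trivial_triple X.hom Y.hom Z.hom x.left (Over.w x) y.left (Over.w y) z.left (Over.w z)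
    (L := N) hN j₁.left j₂.left j₃.left (hz j₁ (key j₁ (Or.inl (by ext <;> simp [rx, j₁]))))
    (hz j₂ (key j₂ (Or.inr (Or.inl (by ext <;> simp [ry, j₂])))))
    (hz j₃ (key j₃ (Or.inr (Or.inr (by ext <;> simp [rz, j₃])))))
    (𝟙 _)
    ((Category.id_comp _).trans ((congrArg Over.Hom.left (show j₁ ≫ fst _ _ ≫ fst _ _ = toUnit _ ≫ x by simp [j₁])).trans
      ((hconst x).trans (Category.assoc _ _ _))))
    ((Category.id_comp _).trans (congrArg Over.Hom.left (show j₁ ≫ fst _ _ ≫ snd _ _ = fst Y Z by simp [j₁])))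
    ((Category.id_comp _).trans (congrArg Over.Hom.left (show j₁ ≫ snd _ _ = snd Y Z by simp [j₁])))
    (𝟙 _)
    ((Category.id_comp _).trans (congrArg Over.Hom.left (show j₂ ≫ fst _ _ ≫ fst _ _ = fst X Z by simp [j₂])))
    ((Category.id_comp _).trans ((congrArg Over.Hom.left (show j₂ ≫ fst _ _ ≫ snd _ _ = toUnit _ ≫ y by simp [j₂])).trans
      ((hconst y).trans (Category.assoc _ _ _))))
    ((Category.id_comp _).trans (congrArg Over.Hom.left (show j₂ ≫ snd _ _ = snd X Z by simp [j₂])))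
    (𝟙 _)
    ((Category.id_comp _).trans (congrArg Over.Hom.left (show j₃ ≫ fst _ _ = 𝟙 (X ⊗ Y) by simp [j₃])))
    ((Category.id_comp _).trans ((congrArg Over.Hom.left (show j₃ ≫ snd _ _ = toUnit _ ≫ z by simp [j₃])).trans
      (hconst z)))
  have hd0 : d = 0 := by
    rw [← hNd, ← clA_one, clA_eq_iff]
    exact ⟨e⟩
  -- evaluate at `(a, b)`
  let i : Z ⟶ (X ⊗ Y) ⊗ Z := lift (lift (toUnit Z ≫ a) (toUnit Z ≫ b)) (𝟙 Z)
  have ez : ∀ {m : Z ⟶ X ⊗ Y}, (∃ q, m = toUnit Z ≫ q) → pb (lift m (toUnit Z ≫ z)) c = 0 := by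
    rintro m ⟨q, rfl⟩
    rw [show lift (toUnit Z ≫ q) (toUnit Z ≫ z) = toUnit Z ≫ lift q z by simp]
    exact pb_point _ hc
  have h := congrArg (pb i) hd0
  simp only [d, map_add, map_sub, map_zero, pb_comp] at h
  have e1 : i ≫ rx = lift (lift (toUnit Z ≫ x) (toUnit Z ≫ b)) (𝟙 Z) := by ext <;> simp [i, rx]
  have e2 : i ≫ ry = lift (lift (toUnit Z ≫ a) (toUnit Z ≫ y)) (𝟙 Z) := by ext <;> simp [i, ry]
  have e12 : i ≫ rx ≫ ry = lift (lift (toUnit Z ≫ x) (toUnit Z ≫ y)) (𝟙 Z) := by ext <;> simp [i, rx, ry]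
  have e3 : pb (i ≫ rz) c = 0 := by
    rw [show i ≫ rz = lift (toUnit Z ≫ lift a b) (toUnit Z ≫ z) by ext <;> simp [i, rz]]
    exact ez ⟨_, rfl⟩
  have e13 : pb (i ≫ rx ≫ rz) c = 0 := by
    rw [show i ≫ rx ≫ rz = lift (toUnit Z ≫ lift x b) (toUnit Z ≫ z) by ext <;> simp [i, rx, rz]]
    exact ez ⟨_, rfl⟩
  have e23 : pb (i ≫ ry ≫ rz) c = 0 := by
    rw [show i ≫ ry ≫ rz = lift (toUnit Z ≫ lift a y) (toUnit Z ≫ z) by ext <;> simp [i, ry, rz]]
    exact ez ⟨_, rfl⟩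
  have e123 : pb (i ≫ rx ≫ ry ≫ rz) c = 0 := by
    rw [show i ≫ rx ≫ ry ≫ rz = lift (toUnit Z ≫ lift x y) (toUnit Z ≫ z) by ext <;> simp [i, rx, ry, rz]]
    exact ez ⟨_, rfl⟩
  rw [e1, e2, e12, e3, e13, e23, e123] at h
  have h' : E c a b + E c x y - (E c a y + E c x b) = 0 := by
    rw [← h]
    simp only [E, i]
    abel
  exact sub_eq_zero.1 h'

end SquareLib
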