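import Groth.Agent.DivDescLib.Normal
import Groth.Agent.S9501

/-!
Extensions of primes along a flat morphism with integral fibres stay prime in the local rings.
-/

set_option autoImplicit false
set_option linter.style.haveILetI false

universe u

open CategoryTheory CategoryTheory.Limits AlgebraicGeometry TopologicalSpace IsLocalRing
open DivDescLib (Qz eq_of_Qz)

noncomputable section

namespace SquareLib

variable {X Y : Scheme.{u}}

theorem qz_isPrime {x x' : X} (h : x' ⤳ x) : (Qz h).IsPrime := Ideal.IsPrime.comap _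

theorem qz_congr {x x' x'' : X} (e : x' = x'') (h : x' ⤳ x) (h' : x'' ⤳ x) : Qz h = Qz h' := by
  subst e
  rfl

theorem spec_comp {x x' x'' : X} (h : x' ⤳ x) (h' : x'' ⤳ x') (b : X.presheaf.stalk x) :
    (X.presheaf.stalkSpecializes h').hom ((X.presheaf.stalkSpecializes h).hom b) =
      (X.presheaf.stalkSpecializes (h'.trans h)).hom b := by
  rw [← RingHom.comp_apply, ← CommRingCat.hom_comp, TopCat.Presheaf.stalkSpecializes_comp]

theorem qz_mono {x x' x'' : X} (h : x' ⤳ x) (h' : x'' ⤳ x') : Qz (h'.trans h) ≤ Qz h := fun a ha => by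
  rw [Ideal.mem_comap] at ha ⊢
  rw [← spec_comp h h'] at ha
  by_contra hne
  exact (mem_maximalIdeal _).1 ha ((notMem_maximalIdeal.1 hne).map _)

theorem mem_qz_trans {x x' x'' : X} (h : x' ⤳ x) (h' : x'' ⤳ x') {b : X.presheaf.stalk x}
    (hb : b ∈ Qz (h'.trans h)) : (X.presheaf.stalkSpecializes h).hom b ∈ Qz h' := by
  rw [Ideal.mem_comap] at hb ⊢
  rwa [spec_comp]

theorem comap_qz (f : X ⟶ Y) {x x' : X} (h : x' ⤳ x) :
    (Qz h).comap (f.stalkMap x).hom = Qz (h.map f.continuous) := by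
  ext a
  rw [Ideal.mem_comap, Ideal.mem_comap, Ideal.mem_comap, mem_maximalIdeal, mem_maximalIdeal, mem_nonunits_iff,
    mem_nonunits_iff, ← Scheme.Hom.stalkSpecializes_stalkMap_apply f x' x h a]
  exact not_congr ⟨fun hu => isUnit_of_map_unit (f.stalkMap x').hom _ hu, fun hu => hu.map _⟩

theorem exists_eq_qz {x : X} (Q : Ideal (X.presheaf.stalk x)) [hQ : Q.IsPrime] :
    ∃ (x' : X) (h : x' ⤳ x), Q = Qz h := by
  obtain ⟨W, hW, hxW, -⟩ := exists_isAffineOpen_mem_and_subset (x := x) (U := ⊤) trivial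
  let U : X.affineOpens := ⟨W, hW⟩
  let γ := (X.presheaf.germ U.1 x hxW).hom
  letI := X.presheaf.algebra_section_stalk (⟨x, hxW⟩ : U.1)
  haveI := SDivLib.prm_isPrime U hxW
  haveI : IsLocalization.AtPrime (X.presheaf.stalk x) (SDivLib.prm U hxW) := U.2.isLocalization_stalk ⟨x, hxW⟩
  obtain ⟨x', hx', hp⟩ := SDivLib.exists_point U (Q.comap γ)
  have hle : Q.comap γ ≤ SDivLib.prm U hxW := fun a ha =>
    (SDivLib.mem_prm_iff _ _ _).2 fun hu => hQ.ne_top (Ideal.eq_top_of_isUnit_mem _ ha hu)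
  have hsp : x' ⤳ x := (SDivLib.specializes_iff_prm U hxW hx').2 (hp ▸ hle)
  refine ⟨x', hsp, ?_⟩
  rw [← IsLocalization.map_comap (SDivLib.prm U hxW).primeCompl (X.presheaf.stalk x) Q,
    ← IsLocalization.map_comap (SDivLib.prm U hxW).primeCompl (X.presheaf.stalk x) (Qz hsp)]
  congr 1
  ext d
  show d ∈ Q.comap γ ↔ γ d ∈ Qz hsp
  rw [← hp]
  exact DivDescLib.mem_prm_of_Qz U hsp hxW d

theorem exists_mul_mem_of_spec_mem {x x' : X} (h : x' ⤳ x) (M : Ideal (X.presheaf.stalk x)) {b : X.presheaf.stalk x}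
    (hb : (X.presheaf.stalkSpecializes h).hom b ∈ M.map (X.presheaf.stalkSpecializes h).hom) :
    ∃ s, s ∉ Qz h ∧ s * b ∈ M := by
  obtain ⟨W, hW, hxW, -⟩ := exists_isAffineOpen_mem_and_subset (x := x) (U := ⊤) trivial
  let U : X.affineOpens := ⟨W, hW⟩
  have hx' : x' ∈ U.1 := h.mem_open U.1.2 hxW
  let γ := (X.presheaf.germ U.1 x hxW).hom
  let γ' := (X.presheaf.germ U.1 x' hx').hom
  letI := X.presheaf.algebra_section_stalk (⟨x, hxW⟩ : U.1)
  haveI := SDivLib.prm_isPrime U hxW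
  haveI : IsLocalization.AtPrime (X.presheaf.stalk x) (SDivLib.prm U hxW) := U.2.isLocalization_stalk ⟨x, hxW⟩
  have hγ : ∀ d, (X.presheaf.stalkSpecializes h).hom (γ d) = γ' d := fun d =>
    TopCat.Presheaf.germ_stalkSpecializes_apply _ hxW h d
  have hM : M.map (X.presheaf.stalkSpecializes h).hom = (M.comap γ).map γ' := by
    conv_lhs => rw [← IsLocalization.map_comap (SDivLib.prm U hxW).primeCompl (X.presheaf.stalk x) M]
    rw [Ideal.map_map, show γ' = ((X.presheaf.stalkSpecializes h).hom).comp γ from RingHom.ext fun d => (hγ d).symm]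
    rfl
  obtain ⟨a, c, hc, hbc⟩ := DivDescLib.exists_germ_eq U hxW b
  have ha : γ' a ∈ (M.comap γ).map γ' := by
    rw [← hγ a, show γ a = b * γ c from hbc.symm, map_mul]
    exact Ideal.mul_mem_right _ _ (hM ▸ hb)
  obtain ⟨c', hc', hca⟩ := (DivDescLib.germ_mem_iff U _ hx' a).1 ha
  refine ⟨γ c' * γ c, fun hs => ?_, ?_⟩
  · rcases (qz_isPrime h).mem_or_mem hs with hs | hs
    · exact hc' ((DivDescLib.mem_prm_of_Qz U h hxW c').2 hs)
    · exact hc ((SDivLib.specializes_iff_prm U hxW hx').1 h ((DivDescLib.mem_prm_of_Qz U h hxW c).2 hs))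
  · rw [mul_assoc, mul_comm (γ c), show b * γ c = γ a from hbc, ← map_mul]
    exact hca

theorem map_qz_eq_maximal {x x' : X} (h : x' ⤳ x) :
    (Qz h).map (X.presheaf.stalkSpecializes h).hom = maximalIdeal (X.presheaf.stalk x') := by
  refine le_antisymm (Ideal.map_le_iff_le_comap.2 le_rfl) fun β hβ => ?_
  obtain ⟨W, hW, hxW, -⟩ := exists_isAffineOpen_mem_and_subset (x := x) (U := ⊤) trivial
  let U : X.affineOpens := ⟨W, hW⟩
  have hx' : x' ∈ U.1 := h.mem_open U.1.2 hxW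
  obtain ⟨a, c, hc, hbc⟩ := DivDescLib.exists_germ_eq U hx' β
  have hcu := (DivDescLib.isUnit_germ_iff U hx' c).2 hc
  rw [← Ideal.mul_unit_mem_iff_mem _ hcu, hbc,
    ← TopCat.Presheaf.germ_stalkSpecializes_apply _ hxW h a]
  refine Ideal.mem_map_of_mem _ ((DivDescLib.mem_prm_of_Qz U h hxW a).1 ?_)
  rw [SDivLib.mem_prm_iff]
  intro hu
  rw [← hbc] at hu
  exact (mem_maximalIdeal _).1 hβ (IsUnit.mul_iff.1 hu).1

theorem exists_fibre_gen (f : X ⟶ Y) (y : Y) [IsIntegral (f.fiber y)] :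
    ∃ ζ : X, f ζ = y ∧ ∀ x, f x = y → ζ ⤳ x := by
  have h : ∀ x ∈ Set.range (f.fiberι y), f x = y := fun x hx => by
    rwa [f.range_fiberι] at hx
  refine ⟨f.fiberι y (genericPoint (f.fiber y)), h _ ⟨_, rfl⟩, fun x hx => ?_⟩
  obtain ⟨z, rfl⟩ : x ∈ Set.range (f.fiberι y) := by rw [f.range_fiberι]; exact hx
  exact (genericPoint_specializes z).map (f.fiberι y).continuous

theorem isPrime_map_maximal_of_fibre (f : X ⟶ Y) {x : X} [IsIntegral (f.fiber (f x))] :
    ((maximalIdeal (Y.presheaf.stalk (f x))).map (f.stalkMap x).hom).IsPrime := by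
  have key : ∀ (y : Y) (_ : IsIntegral (f.fiber y)) (z : f.fiber y),
      ((maximalIdeal (Y.presheaf.stalk (f (f.fiberι y z)))).map (f.stalkMap (f.fiberι y z)).hom).IsPrime := by
    intro y hy z
    have hk := (Groth.Agent.S9501.result f y z).2
    exact hk ▸ RingHom.ker_isPrime ((f.fiberι y).stalkMap z).hom
  obtain ⟨z, hz⟩ : x ∈ Set.range (f.fiberι (f x)) := by rw [f.range_fiberι]; rfl
  have h := key (f x) inferInstance z
  rwa [hz] at h

/-- The extension of a prime is a prime lying over it. -/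
theorem isPrime_map_of_fibres (f : X ⟶ Y) [Flat f] [IsLocallyNoetherian X] (hfib : ∀ y, IsIntegral (f.fiber y))
    (x : X) (P : Ideal (Y.presheaf.stalk (f x))) [hP : P.IsPrime] :
    (P.map (f.stalkMap x).hom).IsPrime := by
  obtain ⟨y', hy, rfl⟩ := exists_eq_qz P
  set φ := (f.stalkMap x).hom
  have hφ : φ.Flat := DivDescLib.flat_stalkMap f x
  have hc := DivDescLib.comap_map_self φ hφ (Qz hy)
  -- a prime over `P`
  have hdis : Disjoint (((Qz hy).map φ : Ideal (X.presheaf.stalk x)) : Set (X.presheaf.stalk x))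
      (((Qz hy).primeCompl.map φ : Submonoid (X.presheaf.stalk x)) : Set (X.presheaf.stalk x)) := by
    rw [Set.disjoint_right]
    rintro _ ⟨s, hs, rfl⟩ h
    exact hs (hc.le (Ideal.mem_comap.2 h))
  obtain ⟨Q₁, hQ₁, hle₁, hdis₁⟩ := Ideal.exists_le_prime_disjoint _ _ hdis
  haveI := hfib y'
  obtain ⟨ζ, hζ, hgen⟩ := exists_fibre_gen f y'
  have hover : ∀ (x' : X) (h : x' ⤳ x), (Qz h).comap φ = Qz hy → f x' = y' := fun x' h e =>
    eq_of_Qz (h.map f.continuous) hy (by rw [← comap_qz]; exact e)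
  obtain ⟨x₁, h₁, rfl⟩ := exists_eq_qz Q₁
  have hζx : ζ ⤳ x := (hgen x₁ (hover x₁ h₁ (le_antisymm (fun s hs => by
      by_contra hne
      exact Set.disjoint_left.1 hdis₁ hs ⟨s, hne, rfl⟩)
    (Ideal.le_comap_of_map_le hle₁)))).trans h₁
  suffices (Qz hy).map φ = Qz hζx by rw [this]; exact qz_isPrime _
  refine le_antisymm (Ideal.map_le_iff_le_comap.2 ((comap_qz f hζx).trans (qz_congr hζ _ hy)).ge) fun b hb => ?_
  by_contra hne
  obtain ⟨Q, hQ, hleQ⟩ := exists_le_isAssociatedPrime_of_isNoetherianRing (R := X.presheaf.stalk x)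
    (Ideal.Quotient.mk ((Qz hy).map φ) b) fun h => hne (Ideal.Quotient.eq_zero_iff_mem.1 h)
  obtain ⟨hQp, z, hz⟩ := isAssociatedPrime_iff.1 hQ
  haveI := hQp
  obtain ⟨c, rfl⟩ := Ideal.Quotient.mk_surjective z
  have hmem : ∀ q r : X.presheaf.stalk x,
      r ∈ (⊥ : Submodule (X.presheaf.stalk x) (X.presheaf.stalk x ⧸ (Qz hy).map φ)).colon
        {Ideal.Quotient.mk ((Qz hy).map φ) q} ↔ r * q ∈ (Qz hy).map φ := by
    intro q r
    rw [Submodule.mem_colon_singleton, Submodule.mem_bot, Algebra.smul_def, Ideal.Quotient.algebraMap_eq,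
      ← map_mul, Ideal.Quotient.eq_zero_iff_mem]
  have hQc : Q.comap φ = Qz hy := by
    refine le_antisymm (fun s hs => ?_) fun s hs => ?_
    · by_contra hsP
      refine hQp.ne_top ((Ideal.eq_top_iff_one _).2 (hz.ge ((hmem c 1).2 ?_)))
      rw [one_mul]
      refine DivDescLib.mem_map_of_mul_mem φ hφ (a := s)
        (fun w hw => ((qz_isPrime hy).mem_or_mem hw).resolve_left hsP) ?_
      exact (hmem c (φ s)).1 (hz.le hs)
    · exact hz.ge ((hmem c (φ s)).2 (Ideal.mul_mem_right _ _ (Ideal.mem_map_of_mem φ hs)))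
  obtain ⟨x', h', rfl⟩ := exists_eq_qz Q
  obtain rfl := hover x' h' hQc
  have hζ' : ζ ⤳ x' := hgen x' rfl
  haveI := hfib (f x')
  haveI hJ := isPrime_map_maximal_of_fibre f (x := x')
  obtain ⟨x'', h'', hJ''⟩ := exists_eq_qz ((maximalIdeal (Y.presheaf.stalk (f x'))).map (f.stalkMap x').hom)
  have hx'' : f x'' = f x' := by
    refine eq_of_Qz (h''.map f.continuous) specializes_rfl ?_
    rw [← comap_qz f h'', DivDescLib.Qz_self]
    refine le_antisymm (IsLocalRing.le_maximalIdeal (Ideal.IsPrime.comap _ (hK := qz_isPrime h'')).ne_top) ?_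
    rw [← hJ'']
    exact Ideal.le_comap_map
  have hb' : (X.presheaf.stalkSpecializes h').hom b ∈ ((Qz hy).map φ).map (X.presheaf.stalkSpecializes h').hom := by
    have e : ((Qz hy).map φ).map (X.presheaf.stalkSpecializes h').hom =
        (maximalIdeal (Y.presheaf.stalk (f x'))).map (f.stalkMap x').hom := by
      rw [← map_qz_eq_maximal hy, Ideal.map_map, Ideal.map_map]
      congr 1
      exact RingHom.ext fun a => (Scheme.Hom.stalkSpecializes_stalkMap_apply f x' x h' a).symm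
    rw [e, hJ'']
    exact qz_mono h'' (hgen x'' hx'') (mem_qz_trans h' hζ' hb)
  obtain ⟨s, hs, hsb⟩ := exists_mul_mem_of_spec_mem h' _ hb'
  exact hs (hleQ ((hmem b s).2 hsb))

theorem comap_map_le_of_flat (f : X ⟶ Y) [Flat f] (x : X) (P : Ideal (Y.presheaf.stalk (f x))) {s}
    (h : (f.stalkMap x).hom s ∈ P.map (f.stalkMap x).hom) : s ∈ P :=
  (DivDescLib.comap_map_self _ (DivDescLib.flat_stalkMap f x) P).le h

end SquareLib

end
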