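import Groth.Agent.SquareLib.FlatNormal
import Groth.Agent.SquareLib.FibrePrime
import Groth.Agent.SquareLib.Generic
import Groth.Agent.SquareLib.DescGen
import Groth.Agent.Ref1Lib.DivProps
import Groth.Agent.S8886

/-!
Invertible modules trivial on the generic fibre of a flat morphism with integral fibres over a normal base.
-/

set_option autoImplicit false
set_option linter.style.haveILetI false

universe u

open CategoryTheory CategoryTheory.Limits AlgebraicGeometry TopologicalSpace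
open KFlatLib (pb)
open AmpleLib (res GenAt GenOn)
open CDivCoreLib (mem_of_open algebraMap_germ)

noncomputable section

namespace SquareLib

variable {X Y : Scheme.{u}} [IsIntegral X] [IsIntegral Y] {φ : X ⟶ Y}

/-- The map of function fields. -/
def fieldMap (hη : φ (genericPoint X) = genericPoint Y) : Y.functionField →+* X.functionField :=
  (Y.presheaf.stalkSpecializes (specializes_of_eq hη) ≫ φ.stalkMap (genericPoint X)).hom

variable (hη : φ (genericPoint X) = genericPoint Y)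

theorem fieldMap_germ {U : Y.Opens} (hU : genericPoint Y ∈ U) (r : Γ(Y, U)) :
    fieldMap hη (Y.presheaf.germ U _ hU r) =
      X.presheaf.germ (φ ⁻¹ᵁ U) (genericPoint X) (show φ (genericPoint X) ∈ U by rw [hη]; exact hU) (φ.app U r) := by
  show (φ.stalkMap _).hom ((Y.presheaf.stalkSpecializes _).hom (Y.presheaf.germ U _ hU r)) = _
  rw [TopCat.Presheaf.germ_stalkSpecializes_apply, Scheme.Hom.germ_stalkMap_apply]

theorem fieldMap_algebraMap (x : X) (a : Y.presheaf.stalk (φ x)) :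
    fieldMap hη (algebraMap (Y.presheaf.stalk (φ x)) Y.functionField a) =
      algebraMap (X.presheaf.stalk x) X.functionField ((φ.stalkMap x).hom a) := by
  obtain ⟨U, hU, r, rfl⟩ := Y.presheaf.exists_germ_eq a
  rw [algebraMap_germ hU (mem_of_open hU), fieldMap_germ, Scheme.Hom.germ_stalkMap_apply,
    algebraMap_germ (show x ∈ φ ⁻¹ᵁ U from hU) (mem_of_open (show x ∈ φ ⁻¹ᵁ U from hU))]

omit [IsIntegral X] in
theorem eq_genericPoint_of_appLE {W : Y.Opens} (hW : IsAffineOpen W) {V : X.Opens} (hVW : V ≤ φ ⁻¹ᵁ W) {x : X}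
    (hx : x ∈ V) (h : ∀ a : Γ(Y, W), a ≠ 0 → IsUnit (X.presheaf.germ V x hx ((φ.appLE W V hVW).hom a))) :
    φ x = genericPoint Y := by
  let U : Y.affineOpens := ⟨W, hW⟩
  have hy : φ x ∈ U.1 := hVW hx
  haveI : Nonempty W := ⟨⟨_, hy⟩⟩
  have hη' : genericPoint Y ∈ U.1 := mem_of_open hy
  refine (((SDivLib.specializes_iff_prm U hη' hy).2 fun a ha => ?_).antisymm (genericPoint_specializes _)).eq
  rw [SDivLib.mem_prm_iff] at ha
  have ha0 : a = 0 := by
    by_contra hne
    refine ha (isUnit_of_map_unit (φ.stalkMap x).hom _ ?_)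
    have e : (X.presheaf.germ V x hx).hom ((φ.appLE W V hVW).hom a) =
        (φ.stalkMap x).hom ((Y.presheaf.germ W (φ x) hy).hom a) :=
      congrArg (fun g : Γ(Y, W) →+* X.presheaf.stalk x => g a) (DivDescLib.germ_stalkMap_appLE φ W V hVW hx)
    rw [← e]
    exact h a hne
  rw [ha0]
  exact Ideal.zero_mem _

theorem exists_denominator (W : Y.affineOpens) (V : X.affineOpens) (hVW : V.1 ≤ φ ⁻¹ᵁ W.1) {x : X} (hx : x ∈ V.1)
    {h : X.functionField} (hreg : ∀ x' ∈ V.1, φ x' = genericPoint Y → CDivCoreLib.Reg h x') :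
    ∃ (a : Γ(Y, W.1)) (r : Γ(X, V.1)), a ≠ 0 ∧
      X.presheaf.germ V.1 (genericPoint X) (mem_of_open hx) ((φ.appLE W.1 V.1 hVW).hom a) * h =
        X.presheaf.germ V.1 (genericPoint X) (mem_of_open hx) r := by
  haveI : Nonempty W.1 := ⟨⟨_, hVW hx⟩⟩
  let γ : Γ(X, V.1) →+* X.functionField := (X.presheaf.germ V.1 (genericPoint X) (mem_of_open hx)).hom
  let I : Ideal Γ(X, V.1) :=
    { carrier := {c | ∃ r, γ c * h = γ r}
      zero_mem' := ⟨0, by rw [map_zero, zero_mul]⟩
      add_mem' := by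
        rintro a b ⟨r, hr⟩ ⟨s, hs⟩
        exact ⟨r + s, by rw [map_add, map_add, add_mul, hr, hs]⟩
      smul_mem' := by
        rintro c a ⟨r, hr⟩
        exact ⟨c * r, by rw [smul_eq_mul, map_mul, map_mul, mul_assoc, hr]⟩ }
  by_contra hcon
  push Not at hcon
  have hdis : Disjoint (I : Set Γ(X, V.1))
      ((nonZeroDivisors Γ(Y, W.1)).map (φ.appLE W.1 V.1 hVW).hom : Submonoid Γ(X, V.1)) := by
    rw [Set.disjoint_right]
    rintro _ ⟨a, ha, rfl⟩ ⟨r, hr⟩
    exact hcon a r (nonZeroDivisors.ne_zero ha) hr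
  obtain ⟨q, hq, hIq, hqS⟩ := Ideal.exists_le_prime_disjoint _ _ hdis
  haveI := hq
  obtain ⟨x', hx', hp⟩ := SDivLib.exists_point V q
  have hgen : φ x' = genericPoint Y := eq_genericPoint_of_appLE W.2 hVW hx' fun a ha => by
    refine (DivDescLib.isUnit_germ_iff V hx' _).2 fun hm => ?_
    rw [hp] at hm
    exact Set.disjoint_left.1 hqS hm ⟨a, mem_nonZeroDivisors_of_ne_zero ha, rfl⟩
  obtain ⟨β, hβ⟩ := hreg x' hx' hgen
  obtain ⟨a, c, hc, hac⟩ := DivDescLib.exists_germ_eq V hx' β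
  refine hc (hp ▸ hIq ⟨a, ?_⟩)
  have e := congrArg (algebraMap (X.presheaf.stalk x') X.functionField) hac
  rw [map_mul, hβ, algebraMap_germ hx' (mem_of_open hx), algebraMap_germ hx' (mem_of_open hx)] at e
  rw [mul_comm]
  exact e

variable [Flat φ]

include hη in
theorem exists_unit_of_field_eq [IsLocallyNoetherian Y] {x : X} {c : Y.functionField} {u : X.presheaf.stalk x}
    (hu : IsUnit u) (h : fieldMap hη c = algebraMap (X.presheaf.stalk x) X.functionField u) :
    ∃ d : Y.presheaf.stalk (φ x), IsUnit d ∧ algebraMap (Y.presheaf.stalk (φ x)) Y.functionField d = c := by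
  obtain ⟨p, q, hq, rfl⟩ := IsFractionRing.div_surjective (A := Y.presheaf.stalk (φ x)) c
  set ψ := (φ.stalkMap x).hom
  have hq0 : algebraMap (Y.presheaf.stalk (φ x)) Y.functionField q ≠ 0 :=
    (map_ne_zero_iff _ (IsFractionRing.injective (Y.presheaf.stalk (φ x)) Y.functionField)).2 (nonZeroDivisors.ne_zero hq)
  have he : ψ p = u * ψ q := by
    apply IsFractionRing.injective (X.presheaf.stalk x) X.functionField
    rw [map_mul, ← h, ← fieldMap_algebraMap hη, ← fieldMap_algebraMap hη, ← map_mul, div_mul_cancel₀ _ hq0]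
  have hmem : p ∈ Ideal.span {q} := by
    rw [← DivDescLib.comap_map_self ψ (DivDescLib.flat_stalkMap φ x) (Ideal.span {q}), Ideal.mem_comap,
      Ideal.map_span, Set.image_singleton, he]
    exact Ideal.mul_mem_left _ _ (Ideal.mem_span_singleton_self _)
  obtain ⟨d, rfl⟩ := Ideal.mem_span_singleton'.1 hmem
  refine ⟨d, ?_, by rw [map_mul, mul_div_cancel_right₀ _ hq0]⟩
  refine isUnit_of_map_unit ψ _ ?_
  have h2 : algebraMap (X.presheaf.stalk x) X.functionField (ψ d) = algebraMap (X.presheaf.stalk x) X.functionField u := by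
    rw [← h, ← fieldMap_algebraMap hη, map_mul, mul_div_cancel_right₀ _ hq0]
  rw [IsFractionRing.injective (X.presheaf.stalk x) X.functionField h2]
  exact hu

variable [IsLocallyNoetherian Y] {L : X.Modules} {e : L.presheaf.stalk (genericPoint X)} {f : X.functionField}

/-- The rational section twisted by a function of the base generates. -/
def GenTw (L : X.Modules) (e : L.presheaf.stalk (genericPoint X)) (f : X.functionField) (x : X) (a : Y.functionField) :
    Prop :=
  IsGen L e x (fieldMap hη a * f)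

theorem genTw_ratio (hL : PicF.IsInvertible L) (he : Function.Bijective fun c : X.functionField => c • e) {x : X}
    {a a' : Y.functionField} (ha : GenTw hη L e f x a) (ha' : GenTw hη L e f x a') :
    ∃ d : Y.presheaf.stalk (φ x), IsUnit d ∧ algebraMap (Y.presheaf.stalk (φ x)) Y.functionField d * a = a' := by
  obtain ⟨u, hu, hua⟩ := IsGen.unique he ha ha'
  have h0 := IsGen.ne_zero hL ha
  have hane : fieldMap hη a ≠ 0 := fun h => h0 (by rw [h, zero_mul])
  have ha0 : a ≠ 0 := fun h => hane (by rw [h, map_zero])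
  have hfne : f ≠ 0 := fun h => h0 (by rw [h, mul_zero])
  have hr : fieldMap hη (a' / a) = algebraMap (X.presheaf.stalk x) X.functionField u := by
    rw [map_div₀, div_eq_iff hane]
    exact mul_right_cancel₀ hfne (hua.trans (mul_assoc _ _ _).symm)
  obtain ⟨d, hd, hdc⟩ := exists_unit_of_field_eq hη hu hr
  exact ⟨d, hd, by rw [hdc, div_mul_cancel₀ _ ha0]⟩

theorem GenTw.unit_mul {x : X} {a : Y.functionField} (h : GenTw hη L e f x a) {d : Y.presheaf.stalk (φ x)}
    (hd : IsUnit d) : GenTw hη L e f x (algebraMap (Y.presheaf.stalk (φ x)) Y.functionField d * a) := by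
  have := IsGen.unit_mul h (hd.map (φ.stalkMap x).hom)
  rwa [← fieldMap_algebraMap hη, ← mul_assoc, ← map_mul] at this

/-- Twisting functions which work at the generic point of a fibre work along the fibre. -/
theorem genTw_of_specializes (hL : PicF.IsInvertible L) (he : Function.Bijective fun c : X.functionField => c • e)
    {x ζ : X} (hφ : φ ζ = φ x) (hζ : ζ ⤳ x) {a a' : Y.functionField} (ha : GenTw hη L e f ζ a)
    (ha' : GenTw hη L e f x a') : GenTw hη L e f x a := by
  obtain ⟨d, hd, rfl⟩ := genTw_ratio hη hL he (IsGen.of_specializes hL hζ ha') ha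
  have hmove : ∀ (y : Y) (_ : φ ζ = y) (d : Y.presheaf.stalk (φ ζ)), IsUnit d → ∃ d' : Y.presheaf.stalk y,
      IsUnit d' ∧ algebraMap (Y.presheaf.stalk y) Y.functionField d' =
        algebraMap (Y.presheaf.stalk (φ ζ)) Y.functionField d := by
    rintro y rfl d hd
    exact ⟨d, hd, rfl⟩
  obtain ⟨d', hd', hdd⟩ := hmove _ hφ d hd
  rw [← hdd]
  exact GenTw.unit_mul hη ha' hd'

theorem exists_genTw [IsLocallyNoetherian X] (hY : Pi1.IsNormalScheme Y) (hfib : ∀ y, IsIntegral (φ.fiber y))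
    (hL : PicF.IsInvertible L) (he : Function.Bijective fun c : X.functionField => c • e)
    (hf : ∀ x, φ x = genericPoint Y → IsGen L e x f) (x : X) : ∃ a, GenTw hη L e f x a := by
  obtain ⟨g, hg⟩ := exists_isGen hL he x
  have hg0 := IsGen.ne_zero hL hg
  have hf0 := IsGen.ne_zero hL (hf (genericPoint X) hη)
  obtain ⟨W, hW, hxW, -⟩ := exists_isAffineOpen_mem_and_subset (x := φ x) (U := ⊤) trivial
  let O : X.Opens := ⟨{x' | IsGen L e x' g}, isOpen_isGen hL g⟩
  obtain ⟨V, hV, hxV, hVW⟩ := exists_isAffineOpen_mem_and_subset (x := x) (U := φ ⁻¹ᵁ W ⊓ O) ⟨hxW, hg⟩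
  have hVW' : V ≤ φ ⁻¹ᵁ W := fun z hz => (hVW hz).1
  have hratio : ∀ x' ∈ V, φ x' = genericPoint Y → CDivCoreLib.Reg (f / g) x' ∧ CDivCoreLib.Reg (g / f) x' := by
    intro x' hx' hgen
    obtain ⟨u, -, hu'⟩ := IsGen.unique he (hVW hx').2 (hf x' hgen)
    obtain ⟨v, -, hv'⟩ := IsGen.unique he (hf x' hgen) (hVW hx').2
    exact ⟨⟨u, by rw [hu', mul_div_cancel_right₀ _ hg0]⟩, ⟨v, by rw [hv', mul_div_cancel_right₀ _ hf0]⟩⟩
  obtain ⟨a, r, ha, har⟩ := exists_denominator (φ := φ) ⟨W, hW⟩ ⟨V, hV⟩ hVW' hxV fun z hz h => (hratio z hz h).1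
  obtain ⟨b, s, hb, hbs⟩ := exists_denominator (φ := φ) ⟨W, hW⟩ ⟨V, hV⟩ hVW' hxV fun z hz h => (hratio z hz h).2
  haveI : Nonempty W := ⟨⟨_, hxW⟩⟩
  haveI := (hY (φ x)).1
  haveI := (hY (φ x)).2
  letI := (φ.stalkMap x).hom.toAlgebra
  haveI : Module.Flat (Y.presheaf.stalk (φ x)) (X.presheaf.stalk x) := DivDescLib.flat_stalkMap φ x
  let A := Y.presheaf.stalk (φ x)
  let γY : Γ(Y, W) →+* A := (Y.presheaf.germ W (φ x) hxW).hom
  let γX : Γ(X, V) →+* X.presheaf.stalk x := (X.presheaf.germ V x hxV).hom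
  let αX : X.presheaf.stalk x →+* X.functionField := algebraMap _ _
  have hα : ∀ t, αX (γX t) = X.presheaf.germ V (genericPoint X) (mem_of_open hxV) t := fun t =>
    algebraMap_germ hxV (mem_of_open hxV) t
  have hαinj : Function.Injective αX := IsFractionRing.injective _ _
  have happ : ∀ c, γX ((φ.appLE W V hVW').hom c) = algebraMap A (X.presheaf.stalk x) (γY c) := fun c =>
    congrArg (fun g : Γ(Y, W) →+* X.presheaf.stalk x => g c) (DivDescLib.germ_stalkMap_appLE φ W V hVW' hxV)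
  have hab : γY (a * b) ≠ 0 := (map_ne_zero_iff _ (germ_injective_of_isIntegral Y _ hxW)).2 (mul_ne_zero ha hb)
  have hkey : γX r * γX s = algebraMap A (X.presheaf.stalk x) (γY (a * b)) := by
    apply hαinj
    rw [map_mul γY, map_mul (algebraMap A (X.presheaf.stalk x)), map_mul, map_mul, ← happ, ← happ, hα, hα, hα, hα,
      ← har, ← hbs]
    field_simp
  obtain ⟨a'', u, hu⟩ := exists_unit_mul_of_generic (A := A) (B := X.presheaf.stalk x)
    (DivDescLib.injective_of_flat (φ.stalkMap x).hom (DivDescLib.flat_stalkMap φ x))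
    (fun P _ _ => isPrime_map_of_fibres φ hfib x P)
    (fun P _ _ t ht => comap_map_le_of_flat φ x P ht) hab hkey
  let κ : A →+* Y.functionField := algebraMap _ _
  have hκ : ∀ t : A, fieldMap hη (κ t) = αX (algebraMap A (X.presheaf.stalk x) t) := fun t =>
    fieldMap_algebraMap hη x t
  have hk : αX (γX r) = fieldMap hη (κ (γY a)) * (f / g) := by
    rw [hκ, ← happ, hα, hα, har]
  have hA0 : fieldMap hη (κ (γY a)) ≠ 0 := by
    rw [map_ne_zero, map_ne_zero_iff κ (IsFractionRing.injective _ _),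
      map_ne_zero_iff γY (germ_injective_of_isIntegral Y _ hxW)]
    exact ha
  have ha''0 : a'' ≠ 0 := by
    rintro rfl
    rw [hu, map_zero, zero_mul, map_zero] at hk
    exact mul_ne_zero hA0 (div_ne_zero hf0 hg0) hk.symm
  refine ⟨κ (γY a) / κ a'', ?_⟩
  have hgen : IsGen L e x (αX (u : X.presheaf.stalk x) * g) := IsGen.unit_mul hg u.isUnit
  show IsGen L e x _
  convert hgen using 1
  have ha''K : fieldMap hη (κ a'') ≠ 0 := by
    rw [map_ne_zero, map_ne_zero_iff κ (IsFractionRing.injective _ _)]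
    exact ha''0
  rw [hu, map_mul, ← hκ] at hk
  rw [map_div₀]
  field_simp at hk ⊢
  linear_combination -hk

theorem invertible_eq_pullback (φ : X ⟶ Y) [IsLocallyNoetherian X] [Flat φ] (hY : Pi1.IsNormalScheme Y)
    (hfib : ∀ y : ↥Y, IsIntegral (φ.fiber y)) (hφ : QuasiCompact φ ∨ LocallyOfFiniteType φ)
    (L : X.Modules) (hL : PicF.IsInvertible L)
    (hgen : Nonempty (pb (φ.fiberι (genericPoint ↥Y)) L ≅ Coh.structureModule (φ.fiber (genericPoint ↥Y)))) :
    ∃ N : Y.Modules, PicF.IsInvertible N ∧ Nonempty (L ≅ (Scheme.Modules.pullback φ).obj N) := by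
  classical
  have hfibmem : ∀ y x, x ∈ Set.range (φ.fiberι y) ↔ φ x = y := fun y x => by
    rw [φ.range_fiberι]; rfl
  haveI : Surjective φ := ⟨fun y => by
    haveI := hfib y
    obtain ⟨z⟩ : Nonempty (φ.fiber y) := inferInstance
    exact ⟨_, (hfibmem y _).1 ⟨z, rfl⟩⟩⟩
  have hη : φ (genericPoint X) = genericPoint Y := by
    obtain ⟨x, hx⟩ := φ.surjective (genericPoint Y)
    exact ((hx ▸ (genericPoint_specializes x).map φ.continuous : φ (genericPoint X) ⤳ genericPoint Y).antisymm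
      (genericPoint_specializes _)).eq
  obtain ⟨z₀, hz₀⟩ := (hfibmem _ _).2 hη
  obtain ⟨τ⟩ := hgen
  obtain ⟨e, he, f, hf⟩ := exists_gen_of_trivial (φ.fiberι (genericPoint Y)) hL τ hz₀
  have hf' : ∀ x, φ x = genericPoint Y → IsGen L e x f := fun x hx => by
    obtain ⟨z, rfl⟩ := (hfibmem _ _).2 hx
    exact hf z
  -- along a fibre
  have hfibre : ∀ y : Y, ∃ a, ∀ x, φ x = y → GenTw hη L e f x a := fun y => by
    haveI := hfib y
    obtain ⟨ζ, hζ, hgen⟩ := exists_fibre_gen φ y
    obtain ⟨a, ha⟩ := exists_genTw hη hY hfib hL he hf' ζ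
    refine ⟨a, fun x hx => ?_⟩
    obtain ⟨a', ha'⟩ := exists_genTw hη hY hfib hL he hf' x
    exact genTw_of_specializes hη hL he (hζ.trans hx.symm) (hgen x hx) ha ha'
  choose a ha using hfibre
  have hsat : ∀ (b : Y.functionField) (x x' : X), φ x' = φ x → GenTw hη L e f x b → GenTw hη L e f x' b := by
    intro b x x' hxx hb
    haveI := hfib (φ x)
    obtain ⟨ζ, hζ, hgen⟩ := exists_fibre_gen φ (φ x)
    exact genTw_of_specializes hη hL he (hζ.trans hxx.symm) (hgen x' hxx)
      (IsGen.of_specializes hL (hgen x rfl) hb) (ha (φ x') x' rfl)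
  have hopen : ∀ b : Y.functionField, IsOpen {y : Y | ∀ x, φ x = y → GenTw hη L e f x b} := by
    intro b
    set S : Set Y := {y : Y | ∀ x, φ x = y → GenTw hη L e f x b}
    have hpre : φ ⁻¹' S = {x | IsGen L e x (fieldMap hη b * f)} :=
      Set.ext fun x => ⟨fun h => h x rfl, fun h x' hx' => hsat b x x' hx' h⟩
    have ho : IsOpen (φ ⁻¹' S) := hpre ▸ isOpen_isGen hL _
    rcases hφ with hq | hq
    · exact (Flat.isQuotientMap_of_surjective φ).isOpen_preimage.1 ho
    · haveI : LocallyOfFinitePresentation φ := LocallyOfFinitePresentation.iff_locallyOfFiniteType.2 hq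
      rw [← Set.image_preimage_eq S φ.surjective]
      exact φ.isOpenMap _ ho
  let V : Y → Y.Opens := fun y => ⟨_, hopen (a y)⟩
  have hV : ∀ y, y ∈ V y := fun y x hx => ha y x hx
  have hξV : ∀ y, genericPoint X ∈ φ ⁻¹ᵁ V y := fun y =>
    show φ (genericPoint X) ∈ V y from hη ▸ mem_of_open (hV y)
  have hsec : ∀ y, ∃ σ : Γ(L, φ ⁻¹ᵁ V y), GenOn L σ ∧
      L.presheaf.germ _ _ (hξV y) σ = (fieldMap hη (a y) * f) • e :=
    fun y => exists_sec_of_isGen hL (hξV y) fun x hx => hx x rfl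
  choose σ hσ hσe using hsec
  obtain ⟨N, hN, ⟨i⟩⟩ := exists_descent_of_gens (f := φ) V hV σ hσ fun j i => by
    have hηji : genericPoint Y ∈ V j ⊓ V i := ⟨mem_of_open (hV j), mem_of_open (hV i)⟩
    have hai : a i ≠ 0 := fun h => by
      obtain ⟨x, hx⟩ := φ.surjective i
      exact IsGen.ne_zero hL (ha i x hx) (by rw [h, map_zero, zero_mul])
    obtain ⟨d, hd⟩ := Ref1Lib.exists_section_of_reg' hηji (a j / a i) fun y hy => by
      obtain ⟨x, rfl⟩ := φ.surjective y
      obtain ⟨t, -, ht⟩ := genTw_ratio hη hL he (hy.2 x rfl) (hy.1 x rfl)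
      exact ⟨t, by rw [← ht, mul_div_cancel_right₀ _ hai]⟩
    have hξ : genericPoint X ∈ φ ⁻¹ᵁ (V j ⊓ V i) := ⟨hξV j, hξV i⟩
    refine ⟨d, sec_eq_of_germ_eq hL (hη := hξ) ?_⟩
    rw [AmpleLib.germ_smul, AmpleLib.germ_res, AmpleLib.germ_res, hσe, hσe, ← fieldMap_germ hη hηji d, hd,
      smul_smul, ← mul_assoc, ← map_mul, div_mul_cancel₀ _ hai]
  exact ⟨N, hN, ⟨i.symm⟩⟩

end SquareLib

end
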