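import Groth.Agent.SquareLib.Cube
import Groth.Agent.SquareLib.Curve
import Groth.Agent.S0234
import Groth.Agent.S2821

/-!
The alternating relation along chains of curves.
-/

set_option autoImplicit false
set_option linter.style.haveILetI false
set_option maxRecDepth 8000
set_option maxHeartbeats 1000000

noncomputable section

universe u

open CategoryTheory CategoryTheory.Limits MonoidalCategory CartesianMonoidalCategory AlgebraicGeometry TopologicalSpace
open CubeConsLib

namespace SquareLib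

variable {K : Type u} [Field K] [IsAlgClosed K]

/-- A smooth curve, possibly open. -/
def IsCrv (C : Over (Spec (CommRingCat.of K))) : Prop :=
  Smooth C.hom ∧ IsSeparated C.hom ∧ QuasiCompact C.hom ∧ GeometricallyIntegral C.hom ∧ topologicalKrullDim C.left ≤ 1

/-- A nonempty scheme of finite type has a rational point. -/
theorem exists_point (W : Over (Spec (CommRingCat.of K))) [LocallyOfFiniteType W.hom] [Nonempty W.left] :
    Nonempty (𝟙_ (Over (Spec (CommRingCat.of K))) ⟶ W) := by
  haveI : JacobsonSpace W.left := LocallyOfFiniteType.jacobsonSpace W.hom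
  obtain ⟨w, -, hw⟩ := nonempty_inter_closedPoints (Z := (Set.univ : Set W.left)) Set.univ_nonempty isOpen_univ.isLocallyClosed
  exact ⟨Over.homMk (pointOfClosedPoint W.hom w hw) (pointOfClosedPoint_comp W.hom w hw)⟩

/-- Invertible modules extend across an open immersion into a smooth scheme. -/
theorem exists_extension {X Y : Over (Spec (CommRingCat.of K))} (J : X ⟶ Y) [IsOpenImmersion J.left] [Smooth Y.hom]
    {c : PicA X.left} (hc : c ∈ Inv X.left) : ∃ c' ∈ Inv Y.left, pb J c' = c := by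
  obtain ⟨L, hL, rfl⟩ := hc
  letI : Y.left.Over (Spec (CommRingCat.of K)) := ⟨Y.hom⟩
  haveI : Smooth (Y.left ↘ Spec (CommRingCat.of K)) := inferInstanceAs (Smooth Y.hom)
  haveI : IsLocallyNoetherian Y.left := LocallyOfFiniteType.isLocallyNoetherian Y.hom
  let e := J.left.isoOpensRange
  obtain ⟨L', hL', ⟨i⟩⟩ := Groth.Agent.S0234.result Y.left J.left.opensRange _
    (AmpleDevLib.isInvertible_pb e.inv hL) fun y _ => by
      haveI := CurveVBLib.regular_stalk (k := K) y
      exact (Groth.Agent.S2821.result _).2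
  refine ⟨clA hL', clA_mem hL', ?_⟩
  have h : pullA J.left.opensRange.ι (clA hL') = pullA e.inv (clA hL) := by
    rw [pullA_clA, pullA_clA, clA_eq_iff]
    exact ⟨((Scheme.Modules.restrictFunctorIsoPullback _).app L').symm ≪≫ i⟩
  calc pb J (clA hL') = pullA e.hom (pullA J.left.opensRange.ι (clA hL')) := by
        rw [pullA_comp, Scheme.Hom.isoOpensRange_hom_ι]; rfl
    _ = clA hL := by rw [h, pullA_comp, Iso.hom_inv_id, pullA_id]

theorem E_natural {X X' Y Y' Z : Over (Spec (CommRingCat.of K))} (f : X ⟶ X') (g : Y ⟶ Y')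
    (c : PicA ((X' ⊗ Y') ⊗ Z).left) (a : 𝟙_ _ ⟶ X) (b : 𝟙_ _ ⟶ Y) :
    E (pb ((f ⊗ₘ g) ⊗ₘ 𝟙 Z) c) a b = E c (a ≫ f) (b ≫ g) := by
  rw [E, E, pb_comp]
  congr 1
  congr 1
  ext <;> simp

/-- The relation for two curves. -/
theorem square_curves {C D W : Over (Spec (CommRingCat.of K))} (hC : IsCrv C) (hD : IsCrv D) [Smooth W.hom]
    [GeometricallyIntegral W.hom] {c : PicA ((C ⊗ D) ⊗ W).left} (hc : c ∈ Inv _)
    (a a' : 𝟙_ _ ⟶ C) (b b' : 𝟙_ _ ⟶ D) :
    E c a b + E c a' b' = E c a b' + E c a' b := by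
  obtain ⟨hC1, hC2, hC3, hC4, hC5⟩ := hC
  obtain ⟨hD1, hD2, hD3, hD4, hD5⟩ := hD
  haveI : IsIntegral C.left := GeometricallyIntegral.isIntegral_of_subsingleton C.hom
  haveI : IsIntegral D.left := GeometricallyIntegral.isIntegral_of_subsingleton D.hom
  haveI : Nonempty W.left := (GeometricallyIntegral.isIntegral_of_subsingleton W.hom).nonempty
  obtain ⟨Cb, sC, jC, hjC, hjCs, hCp, hCsm, hCg⟩ := exists_completion C.hom hC5
  obtain ⟨Db, sD, jD, hjD, hjDs, hDp, hDsm, hDg⟩ := exists_completion D.hom hD5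
  let f : C ⟶ Over.mk sC := Over.homMk jC hjCs
  let g : D ⟶ Over.mk sD := Over.homMk jD hjDs
  haveI : IsOpenImmersion f.left := hjC
  haveI : IsOpenImmersion g.left := hjD
  haveI : IsOpenImmersion (f ⊗ₘ g).left := by rw [Over.tensorHom_left]; infer_instance
  haveI : IsOpenImmersion ((f ⊗ₘ g) ⊗ₘ 𝟙 W).left := by rw [Over.tensorHom_left]; infer_instance
  haveI : Smooth (Over.mk sC).hom := hCsm
  haveI : Smooth (Over.mk sD).hom := hDsm
  haveI : IsProper (Over.mk sC).hom := hCp
  haveI : IsProper (Over.mk sD).hom := hDp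
  haveI : GeometricallyIntegral (Over.mk sC).hom := hCg
  haveI : GeometricallyIntegral (Over.mk sD).hom := hDg
  haveI : Smooth ((Over.mk sC ⊗ Over.mk sD) ⊗ W).hom := by
    simp only [Over.tensorObj_hom]
    infer_instance
  obtain ⟨c', hc', rfl⟩ := exists_extension ((f ⊗ₘ g) ⊗ₘ 𝟙 W) hc
  obtain ⟨z⟩ := exists_point W
  simp only [E_natural]
  exact square_base hc' _ _ z _ _

/-- Two points lie on one curve. -/
def OnCurve (U : Over (Spec (CommRingCat.of K))) (a a' : 𝟙_ _ ⟶ U) : Prop :=
  ∃ (C : Over (Spec (CommRingCat.of K))) (f : C ⟶ U) (c c' : 𝟙_ _ ⟶ C), IsCrv C ∧ c ≫ f = a ∧ c' ≫ f = a'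

/-- Two points are linked by a chain of curves. -/
def Linked (U : Over (Spec (CommRingCat.of K))) : (𝟙_ _ ⟶ U) → (𝟙_ _ ⟶ U) → Prop :=
  Relation.EqvGen (OnCurve U)

theorem Linked.map {U U' : Over (Spec (CommRingCat.of K))} (g : U ⟶ U') {a a' : 𝟙_ _ ⟶ U} (h : Linked U a a') :
    Linked U' (a ≫ g) (a' ≫ g) := by
  induction h with
  | rel x y h =>
    obtain ⟨C, f, c, c', hC, rfl, rfl⟩ := h
    exact .rel _ _ ⟨C, f ≫ g, c, c', hC, (Category.assoc _ _ _).symm, (Category.assoc _ _ _).symm⟩
  | refl x => exact .refl _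
  | symm x y _ ih => exact .symm _ _ ih
  | trans x y z _ _ ih ih' => exact .trans _ _ _ ih ih'

/-- The relation along chains of curves. -/
theorem square_linked {U V W : Over (Spec (CommRingCat.of K))} [Smooth W.hom]
    [GeometricallyIntegral W.hom] {c : PicA ((U ⊗ V) ⊗ W).left} (hc : c ∈ Inv _)
    {a a' : 𝟙_ _ ⟶ U} {b b' : 𝟙_ _ ⟶ V} (ha : Linked U a a') (hb : Linked V b b') :
    E c a b + E c a' b' = E c a b' + E c a' b := by
  induction ha generalizing b b' with
  | rel x y h =>
    induction hb with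
    | rel p q h' =>
      obtain ⟨C, f, s, s', hC, rfl, rfl⟩ := h
      obtain ⟨D, g, t, t', hD, rfl, rfl⟩ := h'
      simp only [← E_natural]
      exact square_curves hC hD (pb_mem _ hc) _ _ _ _
    | refl p => rfl
    | symm p q _ ih => exact ih.symm
    | trans p q r _ _ ih ih' =>
      rw [← sub_eq_zero] at ih ih' ⊢
      calc _ = (E c x p + E c y q - (E c x q + E c y p)) + (E c x q + E c y r - (E c x r + E c y q)) := by abel
        _ = 0 := by rw [ih, ih', add_zero]
  | refl x => exact add_comm _ _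
  | symm x y _ ih =>
    rw [add_comm (E c y b), add_comm (E c y b')]
    exact (ih hb).symm
  | trans x y z _ _ ih ih' =>
    have h1 := sub_eq_zero.2 (ih hb)
    have h2 := sub_eq_zero.2 (ih' hb)
    rw [← sub_eq_zero]
    calc _ = (E c x b + E c y b' - (E c x b' + E c y b)) + (E c y b + E c z b' - (E c y b' + E c z b)) := by abel
      _ = 0 := by rw [h1, h2, add_zero]

end SquareLib
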