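import Groth.Agent.TwistLib.PullGen
import Groth.Agent.CDivCoreLib.Basic
import Groth.Agent.ModGlueLib.Basic

/-!
Invertible modules on integral schemes through their coordinates at the generic point.
-/

set_option autoImplicit false
set_option linter.style.haveILetI false

universe u

open CategoryTheory CategoryTheory.Limits AlgebraicGeometry TopologicalSpace
open AmpleLib (res GenAt GenOn)
open CDivCoreLib (mem_of_open algebraMap_germ)

noncomputable section

namespace SquareLib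

variable {X : Scheme.{u}} [IsIntegral X] {L : X.Modules}

/-- `f` times the chosen vector at the generic point extends to a generator at `x`. -/
def IsGen (L : X.Modules) (e : L.presheaf.stalk (genericPoint X)) (x : X) (f : X.functionField) : Prop :=
  ∃ (W : X.Opens) (hx : x ∈ W) (σ : Γ(L, W)), GenAt L σ hx ∧
    L.presheaf.germ W (genericPoint X) (mem_of_open hx) σ = f • e

theorem exists_genOn_nbhd (hL : PicF.IsInvertible L) {W : X.Opens} {σ : Γ(L, W)} {x : X} {hx : x ∈ W}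
    (h : GenAt L σ hx) : ∃ (T : X.Opens) (hT : T ≤ W), x ∈ T ∧ GenOn L (res L hT σ) := by
  obtain ⟨U, e, hxU, he⟩ := TwistLib.exists_genOn hL x
  obtain ⟨r, hr⟩ := (he (U ⊓ W) inf_le_left).2 (res L inf_le_right σ)
  dsimp only at hr
  have hrx : x ∈ X.basicOpen r := by
    refine (AmpleLib.genAt_smul_iff r _ (show x ∈ U ⊓ W from ⟨hxU, hx⟩)
      ((AmpleLib.genAt_res (inf_le_left : U ⊓ W ≤ U) e (show x ∈ U ⊓ W from ⟨hxU, hx⟩)).2 (he.genAt hxU))).1 ?_
    rw [hr]
    exact (AmpleLib.genAt_res (inf_le_right : U ⊓ W ≤ W) σ (show x ∈ U ⊓ W from ⟨hxU, hx⟩)).2 h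
  refine ⟨X.basicOpen r, (X.basicOpen_le r).trans inf_le_right, hrx, TwistLib.genOn_of_genAt fun y hy => ?_⟩
  rw [AmpleLib.genAt_res,
    ← AmpleLib.genAt_res (inf_le_right : U ⊓ W ≤ W) σ (X.basicOpen_le r hy), ← hr]
  exact (AmpleLib.genAt_smul_iff r _ _ ((AmpleLib.genAt_res (inf_le_left : U ⊓ W ≤ U) e (X.basicOpen_le r hy)).2 (he.genAt (X.basicOpen_le r hy).1))).2 hy

variable {e : L.presheaf.stalk (genericPoint X)}

theorem IsGen.exists_genOn (hL : PicF.IsInvertible L) {x : X} {f : X.functionField} (h : IsGen L e x f) :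
    ∃ (W : X.Opens) (hx : x ∈ W) (σ : Γ(L, W)), GenOn L σ ∧
      L.presheaf.germ W (genericPoint X) (mem_of_open hx) σ = f • e := by
  obtain ⟨W, hx, σ, hσ, he⟩ := h
  obtain ⟨T, hT, hxT, hgen⟩ := exists_genOn_nbhd hL hσ
  exact ⟨T, hxT, _, hgen, by rw [AmpleLib.germ_res, he]⟩

theorem isOpen_isGen (hL : PicF.IsInvertible L) (f : X.functionField) : IsOpen {x | IsGen L e x f} := by
  rw [isOpen_iff_forall_mem_open]
  intro x hx
  obtain ⟨W, hxW, σ, hσ, he⟩ := IsGen.exists_genOn hL hx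
  exact ⟨W, fun y hy => ⟨W, hy, σ, hσ.genAt hy, he⟩, W.2, hxW⟩

theorem IsGen.of_specializes (hL : PicF.IsInvertible L) {x y : X} (h : y ⤳ x) {f : X.functionField}
    (hf : IsGen L e x f) : IsGen L e y f :=
  h.mem_open (isOpen_isGen hL f) hf

theorem IsGen.unit_mul {x : X} {f : X.functionField} (h : IsGen L e x f) {u : X.presheaf.stalk x} (hu : IsUnit u) :
    IsGen L e x (algebraMap (X.presheaf.stalk x) X.functionField u * f) := by
  obtain ⟨W, hx, σ, hσ, he⟩ := h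
  obtain ⟨U, hxU, r, rfl⟩ := X.presheaf.exists_germ_eq u
  have hxT : x ∈ U ⊓ W := ⟨hxU, hx⟩
  let r' : Γ(X, U ⊓ W) := X.presheaf.map (homOfLE (inf_le_left : U ⊓ W ≤ U)).op r
  refine ⟨U ⊓ W, hxT, r' • res L inf_le_right σ, ?_, ?_⟩
  · refine (AmpleLib.genAt_smul_iff r' _ hxT ((AmpleLib.genAt_res (inf_le_right : U ⊓ W ≤ W) σ hxT).2 hσ)).2 ?_
    rw [Scheme.mem_basicOpen _ _ _ hxT]
    show IsUnit (X.presheaf.germ (U ⊓ W) x hxT (X.presheaf.map (homOfLE (inf_le_left : U ⊓ W ≤ U)).op r))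
    rw [TopCat.Presheaf.germ_res_apply]
    exact hu
  · rw [AmpleLib.germ_smul, AmpleLib.germ_res, he, smul_smul, algebraMap_germ hxU (mem_of_open hxU),
      TopCat.Presheaf.germ_res_apply]

theorem eq_of_smul_eq (he : Function.Bijective fun c : X.functionField => c • e) {f g : X.functionField}
    (h : f • e = g • e) : f = g := he.1 h

theorem IsGen.unique (he : Function.Bijective fun c : X.functionField => c • e) {x : X} {f f' : X.functionField}
    (h : IsGen L e x f) (h' : IsGen L e x f') :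
    ∃ u : X.presheaf.stalk x, IsUnit u ∧ f' = algebraMap (X.presheaf.stalk x) X.functionField u * f := by
  obtain ⟨W, hx, σ, hσ, hf⟩ := h
  obtain ⟨W', hx', σ', hσ', hf'⟩ := h'
  obtain ⟨c, hc⟩ := hσ.2 (L.presheaf.germ W' x hx' σ')
  dsimp only at hc
  obtain ⟨U, hxU, r, rfl⟩ := X.presheaf.exists_germ_eq c
  let T := U ⊓ W ⊓ W'
  have hxT : x ∈ T := ⟨⟨hxU, hx⟩, hx'⟩
  have hTU : T ≤ U := inf_le_left.trans inf_le_left
  have hTW : T ≤ W := inf_le_left.trans inf_le_right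
  have hTW' : T ≤ W' := inf_le_right
  let r' : Γ(X, T) := X.presheaf.map (homOfLE hTU).op r
  have e1 : L.presheaf.germ T x hxT (r' • res L hTW σ) = L.presheaf.germ T x hxT (res L hTW' σ') := by
    rw [AmpleLib.germ_smul, AmpleLib.germ_res, AmpleLib.germ_res, TopCat.Presheaf.germ_res_apply, hc]
  obtain ⟨V, hxV, i₁, i₂, e2⟩ := TopCat.Presheaf.germ_eq _ _ hxT hxT _ _ e1
  have e3 := congrArg (L.presheaf.germ V (genericPoint X) (mem_of_open hxV)) e2
  rw [TopCat.Presheaf.germ_res_apply, TopCat.Presheaf.germ_res_apply, AmpleLib.germ_smul, AmpleLib.germ_res,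
    AmpleLib.germ_res, hf, hf', smul_smul, TopCat.Presheaf.germ_res_apply] at e3
  refine ⟨_, ?_, by rw [algebraMap_germ hxU (mem_of_open hxU)]; exact (eq_of_smul_eq he e3).symm⟩
  obtain ⟨d, hd⟩ := hσ'.2 (L.presheaf.germ W x hx σ)
  dsimp only at hd
  refine IsUnit.of_mul_eq_one_right d (hσ.1 ?_)
  show (d * X.presheaf.germ U x hxU r) • L.presheaf.germ W x hx σ = (1 : X.presheaf.stalk x) • L.presheaf.germ W x hx σ
  rw [mul_smul, hc, hd, one_smul]

theorem exists_isGen (hL : PicF.IsInvertible L) (he : Function.Bijective fun c : X.functionField => c • e) (x : X) :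
    ∃ f, IsGen L e x f := by
  obtain ⟨U, σ, hxU, hσ⟩ := TwistLib.exists_genOn hL x
  obtain ⟨f, hf⟩ := he.2 (L.presheaf.germ U (genericPoint X) (mem_of_open hxU) σ)
  exact ⟨f, U, hxU, σ, hσ.genAt hxU, hf.symm⟩

theorem IsGen.ne_zero (hL : PicF.IsInvertible L) {x : X} {f : X.functionField} (h : IsGen L e x f) : f ≠ 0 := by
  rintro rfl
  obtain ⟨W, hx, σ, hσ, he⟩ := IsGen.exists_genOn hL h
  have hg := (hσ.genAt (mem_of_open hx)).1 (a₁ := (1 : X.functionField)) (a₂ := 0) ?_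
  · exact one_ne_zero hg
  · simp only [he, zero_smul, smul_zero]

theorem sec_eq_of_germ_eq (hL : PicF.IsInvertible L) {W : X.Opens} {hη : genericPoint X ∈ W} {s t : Γ(L, W)}
    (h : L.presheaf.germ W _ hη s = L.presheaf.germ W _ hη t) : s = t := by
  refine ModGlueLib.eq_of_locally _ _ fun x hx => ?_
  obtain ⟨U, σ, hxU, hσ⟩ := TwistLib.exists_genOn hL x
  refine ⟨U ⊓ W, inf_le_right, ⟨hxU, hx⟩, ?_⟩
  obtain ⟨a, ha⟩ := (hσ _ inf_le_left).2 (res L (inf_le_right : U ⊓ W ≤ W) s)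
  obtain ⟨b, hb⟩ := (hσ _ inf_le_left).2 (res L (inf_le_right : U ⊓ W ≤ W) t)
  dsimp only at ha hb
  show res L (inf_le_right : U ⊓ W ≤ W) s = res L inf_le_right t
  rw [← ha, ← hb]
  congr 1
  have hη' : genericPoint X ∈ U ⊓ W := mem_of_open (show x ∈ U ⊓ W from ⟨hxU, hx⟩)
  refine germ_injective_of_isIntegral X _ hη' ((hσ.genAt hη'.1).1 ?_)
  have e1 := congrArg (L.presheaf.germ (U ⊓ W) _ hη') ha
  have e2 := congrArg (L.presheaf.germ (U ⊓ W) _ hη') hb
  rw [AmpleLib.germ_smul, AmpleLib.germ_res, AmpleLib.germ_res] at e1 e2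
  exact e1.trans (h.trans e2.symm)

theorem exists_sec_of_isGen (hL : PicF.IsInvertible L) {W : X.Opens} (hη : genericPoint X ∈ W) {f : X.functionField}
    (h : ∀ x ∈ W, IsGen L e x f) :
    ∃ σ : Γ(L, W), GenOn L σ ∧ L.presheaf.germ W _ hη σ = f • e := by
  choose U hxU s hgen he using fun x : W => IsGen.exists_genOn hL (h x.1 x.2)
  obtain ⟨g, hg⟩ := ModGlueLib.exists_glue (M := L) (V := W) (fun x : W => U x ⊓ W) (fun _ => inf_le_right)
    (fun x hx => ⟨⟨x, hx⟩, hxU _, hx⟩) (fun x => res L inf_le_left (s x)) fun p q => by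
      show res L _ (res L _ _) = res L _ (res L _ _)
      rw [AmpleLib.res_res, AmpleLib.res_res]
      refine sec_eq_of_germ_eq hL (hη := ?_) ?_
      · exact ⟨⟨mem_of_open (hxU p), hη⟩, mem_of_open (hxU q), hη⟩
      · rw [AmpleLib.germ_res, AmpleLib.germ_res, he, he]
  refine ⟨g, TwistLib.genOn_of_genAt fun x hx => ?_, ?_⟩
  · have hxT : x ∈ U ⟨x, hx⟩ ⊓ W := ⟨hxU _, hx⟩
    refine (AmpleLib.genAt_res (inf_le_right : U ⟨x, hx⟩ ⊓ W ≤ W) g hxT).1 ?_
    rw [show res L (inf_le_right : U ⟨x, hx⟩ ⊓ W ≤ W) g = _ from hg ⟨x, hx⟩, AmpleLib.genAt_res]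
    exact (hgen _).genAt _
  · obtain ⟨p⟩ : Nonempty W := ⟨⟨_, hη⟩⟩
    have hp : genericPoint X ∈ U p ⊓ W := ⟨mem_of_open (hxU p), hη⟩
    rw [← AmpleLib.germ_res L (inf_le_right : U p ⊓ W ≤ W) g hp,
      show res L (inf_le_right : U p ⊓ W ≤ W) g = _ from hg p, AmpleLib.germ_res, he]

end SquareLib

end
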